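import Cfsg.Agent.Lib.ToddCox.L37T.Data0
set_option autoImplicit false
set_option maxRecDepth 100000
namespace Cfsg.Agent.Lib.ToddCox.L37T
def eT_0_2 (j : ℕ) : ℕ := bif Nat.blt j 1 then E_0 else E_1
def eT_2_4 (j : ℕ) : ℕ := bif Nat.blt j 3 then E_2 else E_3
def eT_0_4 (j : ℕ) : ℕ := bif Nat.blt j 2 then (eT_0_2 j) else (eT_2_4 j)
def eT_4_6 (j : ℕ) : ℕ := bif Nat.blt j 5 then E_4 else E_5
def eT_6_8 (j : ℕ) : ℕ := bif Nat.blt j 7 then E_6 else E_7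
def eT_4_8 (j : ℕ) : ℕ := bif Nat.blt j 6 then (eT_4_6 j) else (eT_6_8 j)
def eT_0_8 (j : ℕ) : ℕ := bif Nat.blt j 4 then (eT_0_4 j) else (eT_4_8 j)
def eT_8_10 (j : ℕ) : ℕ := bif Nat.blt j 9 then E_8 else E_9
def eT_10_12 (j : ℕ) : ℕ := bif Nat.blt j 11 then E_10 else E_11
def eT_8_12 (j : ℕ) : ℕ := bif Nat.blt j 10 then (eT_8_10 j) else (eT_10_12 j)
def eT_12_14 (j : ℕ) : ℕ := bif Nat.blt j 13 then E_12 else E_13
def eT_14_16 (j : ℕ) : ℕ := bif Nat.blt j 15 then E_14 else E_15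
def eT_12_16 (j : ℕ) : ℕ := bif Nat.blt j 14 then (eT_12_14 j) else (eT_14_16 j)
def eT_8_16 (j : ℕ) : ℕ := bif Nat.blt j 12 then (eT_8_12 j) else (eT_12_16 j)
def eT_0_16 (j : ℕ) : ℕ := bif Nat.blt j 8 then (eT_0_8 j) else (eT_8_16 j)
def eT_16_18 (j : ℕ) : ℕ := bif Nat.blt j 17 then E_16 else E_17
def eT_18_20 (j : ℕ) : ℕ := bif Nat.blt j 19 then E_18 else E_19
def eT_16_20 (j : ℕ) : ℕ := bif Nat.blt j 18 then (eT_16_18 j) else (eT_18_20 j)
def eT_20_22 (j : ℕ) : ℕ := bif Nat.blt j 21 then E_20 else E_21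
def eT_22_24 (j : ℕ) : ℕ := bif Nat.blt j 23 then E_22 else E_23
def eT_20_24 (j : ℕ) : ℕ := bif Nat.blt j 22 then (eT_20_22 j) else (eT_22_24 j)
def eT_16_24 (j : ℕ) : ℕ := bif Nat.blt j 20 then (eT_16_20 j) else (eT_20_24 j)
def eT_24_26 (j : ℕ) : ℕ := bif Nat.blt j 25 then E_24 else E_25
def eT_26_28 (j : ℕ) : ℕ := bif Nat.blt j 27 then E_26 else E_27
def eT_24_28 (j : ℕ) : ℕ := bif Nat.blt j 26 then (eT_24_26 j) else (eT_26_28 j)
def eT_28_30 (j : ℕ) : ℕ := bif Nat.blt j 29 then E_28 else E_29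
def eT_30_32 (j : ℕ) : ℕ := bif Nat.blt j 31 then E_30 else E_31
def eT_28_32 (j : ℕ) : ℕ := bif Nat.blt j 30 then (eT_28_30 j) else (eT_30_32 j)
def eT_24_32 (j : ℕ) : ℕ := bif Nat.blt j 28 then (eT_24_28 j) else (eT_28_32 j)
def eT_16_32 (j : ℕ) : ℕ := bif Nat.blt j 24 then (eT_16_24 j) else (eT_24_32 j)
def eT_0_32 (j : ℕ) : ℕ := bif Nat.blt j 16 then (eT_0_16 j) else (eT_16_32 j)
def eT_32_34 (j : ℕ) : ℕ := bif Nat.blt j 33 then E_32 else E_33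
def eT_34_36 (j : ℕ) : ℕ := bif Nat.blt j 35 then E_34 else E_35
def eT_32_36 (j : ℕ) : ℕ := bif Nat.blt j 34 then (eT_32_34 j) else (eT_34_36 j)
def eT_36_38 (j : ℕ) : ℕ := bif Nat.blt j 37 then E_36 else E_37
def eT_38_40 (j : ℕ) : ℕ := bif Nat.blt j 39 then E_38 else E_39
def eT_36_40 (j : ℕ) : ℕ := bif Nat.blt j 38 then (eT_36_38 j) else (eT_38_40 j)
def eT_32_40 (j : ℕ) : ℕ := bif Nat.blt j 36 then (eT_32_36 j) else (eT_36_40 j)
def eT_40_42 (j : ℕ) : ℕ := bif Nat.blt j 41 then E_40 else E_41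
def eT_42_44 (j : ℕ) : ℕ := bif Nat.blt j 43 then E_42 else E_43
def eT_40_44 (j : ℕ) : ℕ := bif Nat.blt j 42 then (eT_40_42 j) else (eT_42_44 j)
def eT_44_46 (j : ℕ) : ℕ := bif Nat.blt j 45 then E_44 else E_45
def eT_46_48 (j : ℕ) : ℕ := bif Nat.blt j 47 then E_46 else E_47
def eT_44_48 (j : ℕ) : ℕ := bif Nat.blt j 46 then (eT_44_46 j) else (eT_46_48 j)
def eT_40_48 (j : ℕ) : ℕ := bif Nat.blt j 44 then (eT_40_44 j) else (eT_44_48 j)
def eT_32_48 (j : ℕ) : ℕ := bif Nat.blt j 40 then (eT_32_40 j) else (eT_40_48 j)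
def eT_48_50 (j : ℕ) : ℕ := bif Nat.blt j 49 then E_48 else E_49
def eT_50_52 (j : ℕ) : ℕ := bif Nat.blt j 51 then E_50 else E_51
def eT_48_52 (j : ℕ) : ℕ := bif Nat.blt j 50 then (eT_48_50 j) else (eT_50_52 j)
def eT_52_54 (j : ℕ) : ℕ := bif Nat.blt j 53 then E_52 else E_53
def eT_54_56 (j : ℕ) : ℕ := bif Nat.blt j 55 then E_54 else E_55
def eT_52_56 (j : ℕ) : ℕ := bif Nat.blt j 54 then (eT_52_54 j) else (eT_54_56 j)
def eT_48_56 (j : ℕ) : ℕ := bif Nat.blt j 52 then (eT_48_52 j) else (eT_52_56 j)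
def eT_56_58 (j : ℕ) : ℕ := bif Nat.blt j 57 then E_56 else E_57
def eT_58_60 (j : ℕ) : ℕ := bif Nat.blt j 59 then E_58 else E_59
def eT_56_60 (j : ℕ) : ℕ := bif Nat.blt j 58 then (eT_56_58 j) else (eT_58_60 j)
def eT_60_62 (j : ℕ) : ℕ := bif Nat.blt j 61 then E_60 else E_61
def eT_63_65 (j : ℕ) : ℕ := bif Nat.blt j 64 then E_63 else E_64
def eT_62_65 (j : ℕ) : ℕ := bif Nat.blt j 63 then E_62 else (eT_63_65 j)
def eT_60_65 (j : ℕ) : ℕ := bif Nat.blt j 62 then (eT_60_62 j) else (eT_62_65 j)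
def eT_56_65 (j : ℕ) : ℕ := bif Nat.blt j 60 then (eT_56_60 j) else (eT_60_65 j)
def eT_48_65 (j : ℕ) : ℕ := bif Nat.blt j 56 then (eT_48_56 j) else (eT_56_65 j)
def eT_32_65 (j : ℕ) : ℕ := bif Nat.blt j 48 then (eT_32_48 j) else (eT_48_65 j)
def eT_0_65 (j : ℕ) : ℕ := bif Nat.blt j 32 then (eT_0_32 j) else (eT_32_65 j)
def eT_65_67 (j : ℕ) : ℕ := bif Nat.blt j 66 then E_65 else E_66
def eT_67_69 (j : ℕ) : ℕ := bif Nat.blt j 68 then E_67 else E_68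
def eT_65_69 (j : ℕ) : ℕ := bif Nat.blt j 67 then (eT_65_67 j) else (eT_67_69 j)
def eT_69_71 (j : ℕ) : ℕ := bif Nat.blt j 70 then E_69 else E_70
def eT_71_73 (j : ℕ) : ℕ := bif Nat.blt j 72 then E_71 else E_72
def eT_69_73 (j : ℕ) : ℕ := bif Nat.blt j 71 then (eT_69_71 j) else (eT_71_73 j)
def eT_65_73 (j : ℕ) : ℕ := bif Nat.blt j 69 then (eT_65_69 j) else (eT_69_73 j)
def eT_73_75 (j : ℕ) : ℕ := bif Nat.blt j 74 then E_73 else E_74
def eT_75_77 (j : ℕ) : ℕ := bif Nat.blt j 76 then E_75 else E_76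
def eT_73_77 (j : ℕ) : ℕ := bif Nat.blt j 75 then (eT_73_75 j) else (eT_75_77 j)
def eT_77_79 (j : ℕ) : ℕ := bif Nat.blt j 78 then E_77 else E_78
def eT_79_81 (j : ℕ) : ℕ := bif Nat.blt j 80 then E_79 else E_80
def eT_77_81 (j : ℕ) : ℕ := bif Nat.blt j 79 then (eT_77_79 j) else (eT_79_81 j)
def eT_73_81 (j : ℕ) : ℕ := bif Nat.blt j 77 then (eT_73_77 j) else (eT_77_81 j)
def eT_65_81 (j : ℕ) : ℕ := bif Nat.blt j 73 then (eT_65_73 j) else (eT_73_81 j)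
def eT_81_83 (j : ℕ) : ℕ := bif Nat.blt j 82 then E_81 else E_82
def eT_83_85 (j : ℕ) : ℕ := bif Nat.blt j 84 then E_83 else E_84
def eT_81_85 (j : ℕ) : ℕ := bif Nat.blt j 83 then (eT_81_83 j) else (eT_83_85 j)
def eT_85_87 (j : ℕ) : ℕ := bif Nat.blt j 86 then E_85 else E_86
def eT_87_89 (j : ℕ) : ℕ := bif Nat.blt j 88 then E_87 else E_88
def eT_85_89 (j : ℕ) : ℕ := bif Nat.blt j 87 then (eT_85_87 j) else (eT_87_89 j)
def eT_81_89 (j : ℕ) : ℕ := bif Nat.blt j 85 then (eT_81_85 j) else (eT_85_89 j)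
def eT_89_91 (j : ℕ) : ℕ := bif Nat.blt j 90 then E_89 else E_90
def eT_91_93 (j : ℕ) : ℕ := bif Nat.blt j 92 then E_91 else E_92
def eT_89_93 (j : ℕ) : ℕ := bif Nat.blt j 91 then (eT_89_91 j) else (eT_91_93 j)
def eT_93_95 (j : ℕ) : ℕ := bif Nat.blt j 94 then E_93 else E_94
def eT_95_97 (j : ℕ) : ℕ := bif Nat.blt j 96 then E_95 else E_96
def eT_93_97 (j : ℕ) : ℕ := bif Nat.blt j 95 then (eT_93_95 j) else (eT_95_97 j)
def eT_89_97 (j : ℕ) : ℕ := bif Nat.blt j 93 then (eT_89_93 j) else (eT_93_97 j)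
def eT_81_97 (j : ℕ) : ℕ := bif Nat.blt j 89 then (eT_81_89 j) else (eT_89_97 j)
def eT_65_97 (j : ℕ) : ℕ := bif Nat.blt j 81 then (eT_65_81 j) else (eT_81_97 j)
def eT_97_99 (j : ℕ) : ℕ := bif Nat.blt j 98 then E_97 else E_98
def eT_99_101 (j : ℕ) : ℕ := bif Nat.blt j 100 then E_99 else E_100
def eT_97_101 (j : ℕ) : ℕ := bif Nat.blt j 99 then (eT_97_99 j) else (eT_99_101 j)
def eT_101_103 (j : ℕ) : ℕ := bif Nat.blt j 102 then E_101 else E_102
def eT_103_105 (j : ℕ) : ℕ := bif Nat.blt j 104 then E_103 else E_104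
def eT_101_105 (j : ℕ) : ℕ := bif Nat.blt j 103 then (eT_101_103 j) else (eT_103_105 j)
def eT_97_105 (j : ℕ) : ℕ := bif Nat.blt j 101 then (eT_97_101 j) else (eT_101_105 j)
def eT_105_107 (j : ℕ) : ℕ := bif Nat.blt j 106 then E_105 else E_106
def eT_107_109 (j : ℕ) : ℕ := bif Nat.blt j 108 then E_107 else E_108
def eT_105_109 (j : ℕ) : ℕ := bif Nat.blt j 107 then (eT_105_107 j) else (eT_107_109 j)
def eT_109_111 (j : ℕ) : ℕ := bif Nat.blt j 110 then E_109 else E_110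
def eT_111_113 (j : ℕ) : ℕ := bif Nat.blt j 112 then E_111 else E_112
def eT_109_113 (j : ℕ) : ℕ := bif Nat.blt j 111 then (eT_109_111 j) else (eT_111_113 j)
def eT_105_113 (j : ℕ) : ℕ := bif Nat.blt j 109 then (eT_105_109 j) else (eT_109_113 j)
def eT_97_113 (j : ℕ) : ℕ := bif Nat.blt j 105 then (eT_97_105 j) else (eT_105_113 j)
def eT_113_115 (j : ℕ) : ℕ := bif Nat.blt j 114 then E_113 else E_114
def eT_115_117 (j : ℕ) : ℕ := bif Nat.blt j 116 then E_115 else E_116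
def eT_113_117 (j : ℕ) : ℕ := bif Nat.blt j 115 then (eT_113_115 j) else (eT_115_117 j)
def eT_117_119 (j : ℕ) : ℕ := bif Nat.blt j 118 then E_117 else E_118
def eT_119_121 (j : ℕ) : ℕ := bif Nat.blt j 120 then E_119 else E_120
def eT_117_121 (j : ℕ) : ℕ := bif Nat.blt j 119 then (eT_117_119 j) else (eT_119_121 j)
def eT_113_121 (j : ℕ) : ℕ := bif Nat.blt j 117 then (eT_113_117 j) else (eT_117_121 j)
def eT_121_123 (j : ℕ) : ℕ := bif Nat.blt j 122 then E_121 else E_122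
def eT_123_125 (j : ℕ) : ℕ := bif Nat.blt j 124 then E_123 else E_124
def eT_121_125 (j : ℕ) : ℕ := bif Nat.blt j 123 then (eT_121_123 j) else (eT_123_125 j)
def eT_125_127 (j : ℕ) : ℕ := bif Nat.blt j 126 then E_125 else E_126
def eT_128_130 (j : ℕ) : ℕ := bif Nat.blt j 129 then E_128 else E_129
def eT_127_130 (j : ℕ) : ℕ := bif Nat.blt j 128 then E_127 else (eT_128_130 j)
def eT_125_130 (j : ℕ) : ℕ := bif Nat.blt j 127 then (eT_125_127 j) else (eT_127_130 j)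
def eT_121_130 (j : ℕ) : ℕ := bif Nat.blt j 125 then (eT_121_125 j) else (eT_125_130 j)
def eT_113_130 (j : ℕ) : ℕ := bif Nat.blt j 121 then (eT_113_121 j) else (eT_121_130 j)
def eT_97_130 (j : ℕ) : ℕ := bif Nat.blt j 113 then (eT_97_113 j) else (eT_113_130 j)
def eT_65_130 (j : ℕ) : ℕ := bif Nat.blt j 97 then (eT_65_97 j) else (eT_97_130 j)
def eT_0_130 (j : ℕ) : ℕ := bif Nat.blt j 65 then (eT_0_65 j) else (eT_65_130 j)
def eT_130_132 (j : ℕ) : ℕ := bif Nat.blt j 131 then E_130 else E_131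
def eT_132_134 (j : ℕ) : ℕ := bif Nat.blt j 133 then E_132 else E_133
def eT_130_134 (j : ℕ) : ℕ := bif Nat.blt j 132 then (eT_130_132 j) else (eT_132_134 j)
def eT_134_136 (j : ℕ) : ℕ := bif Nat.blt j 135 then E_134 else E_135
def eT_136_138 (j : ℕ) : ℕ := bif Nat.blt j 137 then E_136 else E_137
def eT_134_138 (j : ℕ) : ℕ := bif Nat.blt j 136 then (eT_134_136 j) else (eT_136_138 j)
def eT_130_138 (j : ℕ) : ℕ := bif Nat.blt j 134 then (eT_130_134 j) else (eT_134_138 j)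
def eT_138_140 (j : ℕ) : ℕ := bif Nat.blt j 139 then E_138 else E_139
def eT_140_142 (j : ℕ) : ℕ := bif Nat.blt j 141 then E_140 else E_141
def eT_138_142 (j : ℕ) : ℕ := bif Nat.blt j 140 then (eT_138_140 j) else (eT_140_142 j)
def eT_142_144 (j : ℕ) : ℕ := bif Nat.blt j 143 then E_142 else E_143
def eT_144_146 (j : ℕ) : ℕ := bif Nat.blt j 145 then E_144 else E_145
def eT_142_146 (j : ℕ) : ℕ := bif Nat.blt j 144 then (eT_142_144 j) else (eT_144_146 j)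
def eT_138_146 (j : ℕ) : ℕ := bif Nat.blt j 142 then (eT_138_142 j) else (eT_142_146 j)
def eT_130_146 (j : ℕ) : ℕ := bif Nat.blt j 138 then (eT_130_138 j) else (eT_138_146 j)
def eT_146_148 (j : ℕ) : ℕ := bif Nat.blt j 147 then E_146 else E_147
def eT_148_150 (j : ℕ) : ℕ := bif Nat.blt j 149 then E_148 else E_149
def eT_146_150 (j : ℕ) : ℕ := bif Nat.blt j 148 then (eT_146_148 j) else (eT_148_150 j)
def eT_150_152 (j : ℕ) : ℕ := bif Nat.blt j 151 then E_150 else E_151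
def eT_152_154 (j : ℕ) : ℕ := bif Nat.blt j 153 then E_152 else E_153
def eT_150_154 (j : ℕ) : ℕ := bif Nat.blt j 152 then (eT_150_152 j) else (eT_152_154 j)
def eT_146_154 (j : ℕ) : ℕ := bif Nat.blt j 150 then (eT_146_150 j) else (eT_150_154 j)
def eT_154_156 (j : ℕ) : ℕ := bif Nat.blt j 155 then E_154 else E_155
def eT_156_158 (j : ℕ) : ℕ := bif Nat.blt j 157 then E_156 else E_157
def eT_154_158 (j : ℕ) : ℕ := bif Nat.blt j 156 then (eT_154_156 j) else (eT_156_158 j)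
def eT_158_160 (j : ℕ) : ℕ := bif Nat.blt j 159 then E_158 else E_159
def eT_160_162 (j : ℕ) : ℕ := bif Nat.blt j 161 then E_160 else E_161
def eT_158_162 (j : ℕ) : ℕ := bif Nat.blt j 160 then (eT_158_160 j) else (eT_160_162 j)
def eT_154_162 (j : ℕ) : ℕ := bif Nat.blt j 158 then (eT_154_158 j) else (eT_158_162 j)
def eT_146_162 (j : ℕ) : ℕ := bif Nat.blt j 154 then (eT_146_154 j) else (eT_154_162 j)
def eT_130_162 (j : ℕ) : ℕ := bif Nat.blt j 146 then (eT_130_146 j) else (eT_146_162 j)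
def eT_162_164 (j : ℕ) : ℕ := bif Nat.blt j 163 then E_162 else E_163
def eT_164_166 (j : ℕ) : ℕ := bif Nat.blt j 165 then E_164 else E_165
def eT_162_166 (j : ℕ) : ℕ := bif Nat.blt j 164 then (eT_162_164 j) else (eT_164_166 j)
def eT_166_168 (j : ℕ) : ℕ := bif Nat.blt j 167 then E_166 else E_167
def eT_168_170 (j : ℕ) : ℕ := bif Nat.blt j 169 then E_168 else E_169
def eT_166_170 (j : ℕ) : ℕ := bif Nat.blt j 168 then (eT_166_168 j) else (eT_168_170 j)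
def eT_162_170 (j : ℕ) : ℕ := bif Nat.blt j 166 then (eT_162_166 j) else (eT_166_170 j)
def eT_170_172 (j : ℕ) : ℕ := bif Nat.blt j 171 then E_170 else E_171
def eT_172_174 (j : ℕ) : ℕ := bif Nat.blt j 173 then E_172 else E_173
def eT_170_174 (j : ℕ) : ℕ := bif Nat.blt j 172 then (eT_170_172 j) else (eT_172_174 j)
def eT_174_176 (j : ℕ) : ℕ := bif Nat.blt j 175 then E_174 else E_175
def eT_176_178 (j : ℕ) : ℕ := bif Nat.blt j 177 then E_176 else E_177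
def eT_174_178 (j : ℕ) : ℕ := bif Nat.blt j 176 then (eT_174_176 j) else (eT_176_178 j)
def eT_170_178 (j : ℕ) : ℕ := bif Nat.blt j 174 then (eT_170_174 j) else (eT_174_178 j)
def eT_162_178 (j : ℕ) : ℕ := bif Nat.blt j 170 then (eT_162_170 j) else (eT_170_178 j)
def eT_178_180 (j : ℕ) : ℕ := bif Nat.blt j 179 then E_178 else E_179
def eT_180_182 (j : ℕ) : ℕ := bif Nat.blt j 181 then E_180 else E_181
def eT_178_182 (j : ℕ) : ℕ := bif Nat.blt j 180 then (eT_178_180 j) else (eT_180_182 j)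
def eT_182_184 (j : ℕ) : ℕ := bif Nat.blt j 183 then E_182 else E_183
def eT_184_186 (j : ℕ) : ℕ := bif Nat.blt j 185 then E_184 else E_185
def eT_182_186 (j : ℕ) : ℕ := bif Nat.blt j 184 then (eT_182_184 j) else (eT_184_186 j)
def eT_178_186 (j : ℕ) : ℕ := bif Nat.blt j 182 then (eT_178_182 j) else (eT_182_186 j)
def eT_186_188 (j : ℕ) : ℕ := bif Nat.blt j 187 then E_186 else E_187
def eT_188_190 (j : ℕ) : ℕ := bif Nat.blt j 189 then E_188 else E_189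
def eT_186_190 (j : ℕ) : ℕ := bif Nat.blt j 188 then (eT_186_188 j) else (eT_188_190 j)
def eT_190_192 (j : ℕ) : ℕ := bif Nat.blt j 191 then E_190 else E_191
def eT_193_195 (j : ℕ) : ℕ := bif Nat.blt j 194 then E_193 else E_194
def eT_192_195 (j : ℕ) : ℕ := bif Nat.blt j 193 then E_192 else (eT_193_195 j)
def eT_190_195 (j : ℕ) : ℕ := bif Nat.blt j 192 then (eT_190_192 j) else (eT_192_195 j)
def eT_186_195 (j : ℕ) : ℕ := bif Nat.blt j 190 then (eT_186_190 j) else (eT_190_195 j)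
def eT_178_195 (j : ℕ) : ℕ := bif Nat.blt j 186 then (eT_178_186 j) else (eT_186_195 j)
def eT_162_195 (j : ℕ) : ℕ := bif Nat.blt j 178 then (eT_162_178 j) else (eT_178_195 j)
def eT_130_195 (j : ℕ) : ℕ := bif Nat.blt j 162 then (eT_130_162 j) else (eT_162_195 j)
def eT_195_197 (j : ℕ) : ℕ := bif Nat.blt j 196 then E_195 else E_196
def eT_197_199 (j : ℕ) : ℕ := bif Nat.blt j 198 then E_197 else E_198
def eT_195_199 (j : ℕ) : ℕ := bif Nat.blt j 197 then (eT_195_197 j) else (eT_197_199 j)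
def eT_199_201 (j : ℕ) : ℕ := bif Nat.blt j 200 then E_199 else E_200
def eT_201_203 (j : ℕ) : ℕ := bif Nat.blt j 202 then E_201 else E_202
def eT_199_203 (j : ℕ) : ℕ := bif Nat.blt j 201 then (eT_199_201 j) else (eT_201_203 j)
def eT_195_203 (j : ℕ) : ℕ := bif Nat.blt j 199 then (eT_195_199 j) else (eT_199_203 j)
def eT_203_205 (j : ℕ) : ℕ := bif Nat.blt j 204 then E_203 else E_204
def eT_205_207 (j : ℕ) : ℕ := bif Nat.blt j 206 then E_205 else E_206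
def eT_203_207 (j : ℕ) : ℕ := bif Nat.blt j 205 then (eT_203_205 j) else (eT_205_207 j)
def eT_207_209 (j : ℕ) : ℕ := bif Nat.blt j 208 then E_207 else E_208
def eT_209_211 (j : ℕ) : ℕ := bif Nat.blt j 210 then E_209 else E_210
def eT_207_211 (j : ℕ) : ℕ := bif Nat.blt j 209 then (eT_207_209 j) else (eT_209_211 j)
def eT_203_211 (j : ℕ) : ℕ := bif Nat.blt j 207 then (eT_203_207 j) else (eT_207_211 j)
def eT_195_211 (j : ℕ) : ℕ := bif Nat.blt j 203 then (eT_195_203 j) else (eT_203_211 j)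
def eT_211_213 (j : ℕ) : ℕ := bif Nat.blt j 212 then E_211 else E_212
def eT_213_215 (j : ℕ) : ℕ := bif Nat.blt j 214 then E_213 else E_214
def eT_211_215 (j : ℕ) : ℕ := bif Nat.blt j 213 then (eT_211_213 j) else (eT_213_215 j)
def eT_215_217 (j : ℕ) : ℕ := bif Nat.blt j 216 then E_215 else E_216
def eT_217_219 (j : ℕ) : ℕ := bif Nat.blt j 218 then E_217 else E_218
def eT_215_219 (j : ℕ) : ℕ := bif Nat.blt j 217 then (eT_215_217 j) else (eT_217_219 j)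
def eT_211_219 (j : ℕ) : ℕ := bif Nat.blt j 215 then (eT_211_215 j) else (eT_215_219 j)
def eT_219_221 (j : ℕ) : ℕ := bif Nat.blt j 220 then E_219 else E_220
def eT_221_223 (j : ℕ) : ℕ := bif Nat.blt j 222 then E_221 else E_222
def eT_219_223 (j : ℕ) : ℕ := bif Nat.blt j 221 then (eT_219_221 j) else (eT_221_223 j)
def eT_223_225 (j : ℕ) : ℕ := bif Nat.blt j 224 then E_223 else E_224
def eT_226_228 (j : ℕ) : ℕ := bif Nat.blt j 227 then E_226 else E_227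
def eT_225_228 (j : ℕ) : ℕ := bif Nat.blt j 226 then E_225 else (eT_226_228 j)
def eT_223_228 (j : ℕ) : ℕ := bif Nat.blt j 225 then (eT_223_225 j) else (eT_225_228 j)
def eT_219_228 (j : ℕ) : ℕ := bif Nat.blt j 223 then (eT_219_223 j) else (eT_223_228 j)
def eT_211_228 (j : ℕ) : ℕ := bif Nat.blt j 219 then (eT_211_219 j) else (eT_219_228 j)
def eT_195_228 (j : ℕ) : ℕ := bif Nat.blt j 211 then (eT_195_211 j) else (eT_211_228 j)
def eT_228_230 (j : ℕ) : ℕ := bif Nat.blt j 229 then E_228 else E_229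
def eT_230_232 (j : ℕ) : ℕ := bif Nat.blt j 231 then E_230 else E_231
def eT_228_232 (j : ℕ) : ℕ := bif Nat.blt j 230 then (eT_228_230 j) else (eT_230_232 j)
def eT_232_234 (j : ℕ) : ℕ := bif Nat.blt j 233 then E_232 else E_233
def eT_234_236 (j : ℕ) : ℕ := bif Nat.blt j 235 then E_234 else E_235
def eT_232_236 (j : ℕ) : ℕ := bif Nat.blt j 234 then (eT_232_234 j) else (eT_234_236 j)
def eT_228_236 (j : ℕ) : ℕ := bif Nat.blt j 232 then (eT_228_232 j) else (eT_232_236 j)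
def eT_236_238 (j : ℕ) : ℕ := bif Nat.blt j 237 then E_236 else E_237
def eT_238_240 (j : ℕ) : ℕ := bif Nat.blt j 239 then E_238 else E_239
def eT_236_240 (j : ℕ) : ℕ := bif Nat.blt j 238 then (eT_236_238 j) else (eT_238_240 j)
def eT_240_242 (j : ℕ) : ℕ := bif Nat.blt j 241 then E_240 else E_241
def eT_242_244 (j : ℕ) : ℕ := bif Nat.blt j 243 then E_242 else E_243
def eT_240_244 (j : ℕ) : ℕ := bif Nat.blt j 242 then (eT_240_242 j) else (eT_242_244 j)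
def eT_236_244 (j : ℕ) : ℕ := bif Nat.blt j 240 then (eT_236_240 j) else (eT_240_244 j)
def eT_228_244 (j : ℕ) : ℕ := bif Nat.blt j 236 then (eT_228_236 j) else (eT_236_244 j)
def eT_244_246 (j : ℕ) : ℕ := bif Nat.blt j 245 then E_244 else E_245
def eT_246_248 (j : ℕ) : ℕ := bif Nat.blt j 247 then E_246 else E_247
def eT_244_248 (j : ℕ) : ℕ := bif Nat.blt j 246 then (eT_244_246 j) else (eT_246_248 j)
def eT_248_250 (j : ℕ) : ℕ := bif Nat.blt j 249 then E_248 else E_249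
def eT_250_252 (j : ℕ) : ℕ := bif Nat.blt j 251 then E_250 else E_251
def eT_248_252 (j : ℕ) : ℕ := bif Nat.blt j 250 then (eT_248_250 j) else (eT_250_252 j)
def eT_244_252 (j : ℕ) : ℕ := bif Nat.blt j 248 then (eT_244_248 j) else (eT_248_252 j)
def eT_252_254 (j : ℕ) : ℕ := bif Nat.blt j 253 then E_252 else E_253
def eT_254_256 (j : ℕ) : ℕ := bif Nat.blt j 255 then E_254 else E_255
def eT_252_256 (j : ℕ) : ℕ := bif Nat.blt j 254 then (eT_252_254 j) else (eT_254_256 j)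
def eT_256_258 (j : ℕ) : ℕ := bif Nat.blt j 257 then E_256 else E_257
def eT_259_261 (j : ℕ) : ℕ := bif Nat.blt j 260 then E_259 else E_260
def eT_258_261 (j : ℕ) : ℕ := bif Nat.blt j 259 then E_258 else (eT_259_261 j)
def eT_256_261 (j : ℕ) : ℕ := bif Nat.blt j 258 then (eT_256_258 j) else (eT_258_261 j)
def eT_252_261 (j : ℕ) : ℕ := bif Nat.blt j 256 then (eT_252_256 j) else (eT_256_261 j)
def eT_244_261 (j : ℕ) : ℕ := bif Nat.blt j 252 then (eT_244_252 j) else (eT_252_261 j)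
def eT_228_261 (j : ℕ) : ℕ := bif Nat.blt j 244 then (eT_228_244 j) else (eT_244_261 j)
def eT_195_261 (j : ℕ) : ℕ := bif Nat.blt j 228 then (eT_195_228 j) else (eT_228_261 j)
def eT_130_261 (j : ℕ) : ℕ := bif Nat.blt j 195 then (eT_130_195 j) else (eT_195_261 j)
def eT_0_261 (j : ℕ) : ℕ := bif Nat.blt j 130 then (eT_0_130 j) else (eT_130_261 j)
def eT_261_263 (j : ℕ) : ℕ := bif Nat.blt j 262 then E_261 else E_262
def eT_263_265 (j : ℕ) : ℕ := bif Nat.blt j 264 then E_263 else E_264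
def eT_261_265 (j : ℕ) : ℕ := bif Nat.blt j 263 then (eT_261_263 j) else (eT_263_265 j)
def eT_265_267 (j : ℕ) : ℕ := bif Nat.blt j 266 then E_265 else E_266
def eT_267_269 (j : ℕ) : ℕ := bif Nat.blt j 268 then E_267 else E_268
def eT_265_269 (j : ℕ) : ℕ := bif Nat.blt j 267 then (eT_265_267 j) else (eT_267_269 j)
def eT_261_269 (j : ℕ) : ℕ := bif Nat.blt j 265 then (eT_261_265 j) else (eT_265_269 j)
def eT_269_271 (j : ℕ) : ℕ := bif Nat.blt j 270 then E_269 else E_270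
def eT_271_273 (j : ℕ) : ℕ := bif Nat.blt j 272 then E_271 else E_272
def eT_269_273 (j : ℕ) : ℕ := bif Nat.blt j 271 then (eT_269_271 j) else (eT_271_273 j)
def eT_273_275 (j : ℕ) : ℕ := bif Nat.blt j 274 then E_273 else E_274
def eT_275_277 (j : ℕ) : ℕ := bif Nat.blt j 276 then E_275 else E_276
def eT_273_277 (j : ℕ) : ℕ := bif Nat.blt j 275 then (eT_273_275 j) else (eT_275_277 j)
def eT_269_277 (j : ℕ) : ℕ := bif Nat.blt j 273 then (eT_269_273 j) else (eT_273_277 j)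
def eT_261_277 (j : ℕ) : ℕ := bif Nat.blt j 269 then (eT_261_269 j) else (eT_269_277 j)
def eT_277_279 (j : ℕ) : ℕ := bif Nat.blt j 278 then E_277 else E_278
def eT_279_281 (j : ℕ) : ℕ := bif Nat.blt j 280 then E_279 else E_280
def eT_277_281 (j : ℕ) : ℕ := bif Nat.blt j 279 then (eT_277_279 j) else (eT_279_281 j)
def eT_281_283 (j : ℕ) : ℕ := bif Nat.blt j 282 then E_281 else E_282
def eT_283_285 (j : ℕ) : ℕ := bif Nat.blt j 284 then E_283 else E_284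
def eT_281_285 (j : ℕ) : ℕ := bif Nat.blt j 283 then (eT_281_283 j) else (eT_283_285 j)
def eT_277_285 (j : ℕ) : ℕ := bif Nat.blt j 281 then (eT_277_281 j) else (eT_281_285 j)
def eT_285_287 (j : ℕ) : ℕ := bif Nat.blt j 286 then E_285 else E_286
def eT_287_289 (j : ℕ) : ℕ := bif Nat.blt j 288 then E_287 else E_288
def eT_285_289 (j : ℕ) : ℕ := bif Nat.blt j 287 then (eT_285_287 j) else (eT_287_289 j)
def eT_289_291 (j : ℕ) : ℕ := bif Nat.blt j 290 then E_289 else E_290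
def eT_291_293 (j : ℕ) : ℕ := bif Nat.blt j 292 then E_291 else E_292
def eT_289_293 (j : ℕ) : ℕ := bif Nat.blt j 291 then (eT_289_291 j) else (eT_291_293 j)
def eT_285_293 (j : ℕ) : ℕ := bif Nat.blt j 289 then (eT_285_289 j) else (eT_289_293 j)
def eT_277_293 (j : ℕ) : ℕ := bif Nat.blt j 285 then (eT_277_285 j) else (eT_285_293 j)
def eT_261_293 (j : ℕ) : ℕ := bif Nat.blt j 277 then (eT_261_277 j) else (eT_277_293 j)
def eT_293_295 (j : ℕ) : ℕ := bif Nat.blt j 294 then E_293 else E_294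
def eT_295_297 (j : ℕ) : ℕ := bif Nat.blt j 296 then E_295 else E_296
def eT_293_297 (j : ℕ) : ℕ := bif Nat.blt j 295 then (eT_293_295 j) else (eT_295_297 j)
def eT_297_299 (j : ℕ) : ℕ := bif Nat.blt j 298 then E_297 else E_298
def eT_299_301 (j : ℕ) : ℕ := bif Nat.blt j 300 then E_299 else E_300
def eT_297_301 (j : ℕ) : ℕ := bif Nat.blt j 299 then (eT_297_299 j) else (eT_299_301 j)
def eT_293_301 (j : ℕ) : ℕ := bif Nat.blt j 297 then (eT_293_297 j) else (eT_297_301 j)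
def eT_301_303 (j : ℕ) : ℕ := bif Nat.blt j 302 then E_301 else E_302
def eT_303_305 (j : ℕ) : ℕ := bif Nat.blt j 304 then E_303 else E_304
def eT_301_305 (j : ℕ) : ℕ := bif Nat.blt j 303 then (eT_301_303 j) else (eT_303_305 j)
def eT_305_307 (j : ℕ) : ℕ := bif Nat.blt j 306 then E_305 else E_306
def eT_307_309 (j : ℕ) : ℕ := bif Nat.blt j 308 then E_307 else E_308
def eT_305_309 (j : ℕ) : ℕ := bif Nat.blt j 307 then (eT_305_307 j) else (eT_307_309 j)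
def eT_301_309 (j : ℕ) : ℕ := bif Nat.blt j 305 then (eT_301_305 j) else (eT_305_309 j)
def eT_293_309 (j : ℕ) : ℕ := bif Nat.blt j 301 then (eT_293_301 j) else (eT_301_309 j)
def eT_309_311 (j : ℕ) : ℕ := bif Nat.blt j 310 then E_309 else E_310
def eT_311_313 (j : ℕ) : ℕ := bif Nat.blt j 312 then E_311 else E_312
def eT_309_313 (j : ℕ) : ℕ := bif Nat.blt j 311 then (eT_309_311 j) else (eT_311_313 j)
def eT_313_315 (j : ℕ) : ℕ := bif Nat.blt j 314 then E_313 else E_314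
def eT_315_317 (j : ℕ) : ℕ := bif Nat.blt j 316 then E_315 else E_316
def eT_313_317 (j : ℕ) : ℕ := bif Nat.blt j 315 then (eT_313_315 j) else (eT_315_317 j)
def eT_309_317 (j : ℕ) : ℕ := bif Nat.blt j 313 then (eT_309_313 j) else (eT_313_317 j)
def eT_317_319 (j : ℕ) : ℕ := bif Nat.blt j 318 then E_317 else E_318
def eT_319_321 (j : ℕ) : ℕ := bif Nat.blt j 320 then E_319 else E_320
def eT_317_321 (j : ℕ) : ℕ := bif Nat.blt j 319 then (eT_317_319 j) else (eT_319_321 j)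
def eT_321_323 (j : ℕ) : ℕ := bif Nat.blt j 322 then E_321 else E_322
def eT_324_326 (j : ℕ) : ℕ := bif Nat.blt j 325 then E_324 else E_325
def eT_323_326 (j : ℕ) : ℕ := bif Nat.blt j 324 then E_323 else (eT_324_326 j)
def eT_321_326 (j : ℕ) : ℕ := bif Nat.blt j 323 then (eT_321_323 j) else (eT_323_326 j)
def eT_317_326 (j : ℕ) : ℕ := bif Nat.blt j 321 then (eT_317_321 j) else (eT_321_326 j)
def eT_309_326 (j : ℕ) : ℕ := bif Nat.blt j 317 then (eT_309_317 j) else (eT_317_326 j)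
def eT_293_326 (j : ℕ) : ℕ := bif Nat.blt j 309 then (eT_293_309 j) else (eT_309_326 j)
def eT_261_326 (j : ℕ) : ℕ := bif Nat.blt j 293 then (eT_261_293 j) else (eT_293_326 j)
def eT_326_328 (j : ℕ) : ℕ := bif Nat.blt j 327 then E_326 else E_327
def eT_328_330 (j : ℕ) : ℕ := bif Nat.blt j 329 then E_328 else E_329
def eT_326_330 (j : ℕ) : ℕ := bif Nat.blt j 328 then (eT_326_328 j) else (eT_328_330 j)
def eT_330_332 (j : ℕ) : ℕ := bif Nat.blt j 331 then E_330 else E_331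
def eT_332_334 (j : ℕ) : ℕ := bif Nat.blt j 333 then E_332 else E_333
def eT_330_334 (j : ℕ) : ℕ := bif Nat.blt j 332 then (eT_330_332 j) else (eT_332_334 j)
def eT_326_334 (j : ℕ) : ℕ := bif Nat.blt j 330 then (eT_326_330 j) else (eT_330_334 j)
def eT_334_336 (j : ℕ) : ℕ := bif Nat.blt j 335 then E_334 else E_335
def eT_336_338 (j : ℕ) : ℕ := bif Nat.blt j 337 then E_336 else E_337
def eT_334_338 (j : ℕ) : ℕ := bif Nat.blt j 336 then (eT_334_336 j) else (eT_336_338 j)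
def eT_338_340 (j : ℕ) : ℕ := bif Nat.blt j 339 then E_338 else E_339
def eT_340_342 (j : ℕ) : ℕ := bif Nat.blt j 341 then E_340 else E_341
def eT_338_342 (j : ℕ) : ℕ := bif Nat.blt j 340 then (eT_338_340 j) else (eT_340_342 j)
def eT_334_342 (j : ℕ) : ℕ := bif Nat.blt j 338 then (eT_334_338 j) else (eT_338_342 j)
def eT_326_342 (j : ℕ) : ℕ := bif Nat.blt j 334 then (eT_326_334 j) else (eT_334_342 j)
def eT_342_344 (j : ℕ) : ℕ := bif Nat.blt j 343 then E_342 else E_343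
def eT_344_346 (j : ℕ) : ℕ := bif Nat.blt j 345 then E_344 else E_345
def eT_342_346 (j : ℕ) : ℕ := bif Nat.blt j 344 then (eT_342_344 j) else (eT_344_346 j)
def eT_346_348 (j : ℕ) : ℕ := bif Nat.blt j 347 then E_346 else E_347
def eT_348_350 (j : ℕ) : ℕ := bif Nat.blt j 349 then E_348 else E_349
def eT_346_350 (j : ℕ) : ℕ := bif Nat.blt j 348 then (eT_346_348 j) else (eT_348_350 j)
def eT_342_350 (j : ℕ) : ℕ := bif Nat.blt j 346 then (eT_342_346 j) else (eT_346_350 j)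
def eT_350_352 (j : ℕ) : ℕ := bif Nat.blt j 351 then E_350 else E_351
def eT_352_354 (j : ℕ) : ℕ := bif Nat.blt j 353 then E_352 else E_353
def eT_350_354 (j : ℕ) : ℕ := bif Nat.blt j 352 then (eT_350_352 j) else (eT_352_354 j)
def eT_354_356 (j : ℕ) : ℕ := bif Nat.blt j 355 then E_354 else E_355
def eT_356_358 (j : ℕ) : ℕ := bif Nat.blt j 357 then E_356 else E_357
def eT_354_358 (j : ℕ) : ℕ := bif Nat.blt j 356 then (eT_354_356 j) else (eT_356_358 j)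
def eT_350_358 (j : ℕ) : ℕ := bif Nat.blt j 354 then (eT_350_354 j) else (eT_354_358 j)
def eT_342_358 (j : ℕ) : ℕ := bif Nat.blt j 350 then (eT_342_350 j) else (eT_350_358 j)
def eT_326_358 (j : ℕ) : ℕ := bif Nat.blt j 342 then (eT_326_342 j) else (eT_342_358 j)
def eT_358_360 (j : ℕ) : ℕ := bif Nat.blt j 359 then E_358 else E_359
def eT_360_362 (j : ℕ) : ℕ := bif Nat.blt j 361 then E_360 else E_361
def eT_358_362 (j : ℕ) : ℕ := bif Nat.blt j 360 then (eT_358_360 j) else (eT_360_362 j)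
def eT_362_364 (j : ℕ) : ℕ := bif Nat.blt j 363 then E_362 else E_363
def eT_364_366 (j : ℕ) : ℕ := bif Nat.blt j 365 then E_364 else E_365
def eT_362_366 (j : ℕ) : ℕ := bif Nat.blt j 364 then (eT_362_364 j) else (eT_364_366 j)
def eT_358_366 (j : ℕ) : ℕ := bif Nat.blt j 362 then (eT_358_362 j) else (eT_362_366 j)
def eT_366_368 (j : ℕ) : ℕ := bif Nat.blt j 367 then E_366 else E_367
def eT_368_370 (j : ℕ) : ℕ := bif Nat.blt j 369 then E_368 else E_369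
def eT_366_370 (j : ℕ) : ℕ := bif Nat.blt j 368 then (eT_366_368 j) else (eT_368_370 j)
def eT_370_372 (j : ℕ) : ℕ := bif Nat.blt j 371 then E_370 else E_371
def eT_372_374 (j : ℕ) : ℕ := bif Nat.blt j 373 then E_372 else E_373
def eT_370_374 (j : ℕ) : ℕ := bif Nat.blt j 372 then (eT_370_372 j) else (eT_372_374 j)
def eT_366_374 (j : ℕ) : ℕ := bif Nat.blt j 370 then (eT_366_370 j) else (eT_370_374 j)
def eT_358_374 (j : ℕ) : ℕ := bif Nat.blt j 366 then (eT_358_366 j) else (eT_366_374 j)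
def eT_374_376 (j : ℕ) : ℕ := bif Nat.blt j 375 then E_374 else E_375
def eT_376_378 (j : ℕ) : ℕ := bif Nat.blt j 377 then E_376 else E_377
def eT_374_378 (j : ℕ) : ℕ := bif Nat.blt j 376 then (eT_374_376 j) else (eT_376_378 j)
def eT_378_380 (j : ℕ) : ℕ := bif Nat.blt j 379 then E_378 else E_379
def eT_380_382 (j : ℕ) : ℕ := bif Nat.blt j 381 then E_380 else E_381
def eT_378_382 (j : ℕ) : ℕ := bif Nat.blt j 380 then (eT_378_380 j) else (eT_380_382 j)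
def eT_374_382 (j : ℕ) : ℕ := bif Nat.blt j 378 then (eT_374_378 j) else (eT_378_382 j)
def eT_382_384 (j : ℕ) : ℕ := bif Nat.blt j 383 then E_382 else E_383
def eT_384_386 (j : ℕ) : ℕ := bif Nat.blt j 385 then E_384 else E_385
def eT_382_386 (j : ℕ) : ℕ := bif Nat.blt j 384 then (eT_382_384 j) else (eT_384_386 j)
def eT_386_388 (j : ℕ) : ℕ := bif Nat.blt j 387 then E_386 else E_387
def eT_389_391 (j : ℕ) : ℕ := bif Nat.blt j 390 then E_389 else E_390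
def eT_388_391 (j : ℕ) : ℕ := bif Nat.blt j 389 then E_388 else (eT_389_391 j)
def eT_386_391 (j : ℕ) : ℕ := bif Nat.blt j 388 then (eT_386_388 j) else (eT_388_391 j)
def eT_382_391 (j : ℕ) : ℕ := bif Nat.blt j 386 then (eT_382_386 j) else (eT_386_391 j)
def eT_374_391 (j : ℕ) : ℕ := bif Nat.blt j 382 then (eT_374_382 j) else (eT_382_391 j)
def eT_358_391 (j : ℕ) : ℕ := bif Nat.blt j 374 then (eT_358_374 j) else (eT_374_391 j)
def eT_326_391 (j : ℕ) : ℕ := bif Nat.blt j 358 then (eT_326_358 j) else (eT_358_391 j)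
def eT_261_391 (j : ℕ) : ℕ := bif Nat.blt j 326 then (eT_261_326 j) else (eT_326_391 j)
def eT_391_393 (j : ℕ) : ℕ := bif Nat.blt j 392 then E_391 else E_392
def eT_393_395 (j : ℕ) : ℕ := bif Nat.blt j 394 then E_393 else E_394
def eT_391_395 (j : ℕ) : ℕ := bif Nat.blt j 393 then (eT_391_393 j) else (eT_393_395 j)
def eT_395_397 (j : ℕ) : ℕ := bif Nat.blt j 396 then E_395 else E_396
def eT_397_399 (j : ℕ) : ℕ := bif Nat.blt j 398 then E_397 else E_398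
def eT_395_399 (j : ℕ) : ℕ := bif Nat.blt j 397 then (eT_395_397 j) else (eT_397_399 j)
def eT_391_399 (j : ℕ) : ℕ := bif Nat.blt j 395 then (eT_391_395 j) else (eT_395_399 j)
def eT_399_401 (j : ℕ) : ℕ := bif Nat.blt j 400 then E_399 else E_400
def eT_401_403 (j : ℕ) : ℕ := bif Nat.blt j 402 then E_401 else E_402
def eT_399_403 (j : ℕ) : ℕ := bif Nat.blt j 401 then (eT_399_401 j) else (eT_401_403 j)
def eT_403_405 (j : ℕ) : ℕ := bif Nat.blt j 404 then E_403 else E_404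
def eT_405_407 (j : ℕ) : ℕ := bif Nat.blt j 406 then E_405 else E_406
def eT_403_407 (j : ℕ) : ℕ := bif Nat.blt j 405 then (eT_403_405 j) else (eT_405_407 j)
def eT_399_407 (j : ℕ) : ℕ := bif Nat.blt j 403 then (eT_399_403 j) else (eT_403_407 j)
def eT_391_407 (j : ℕ) : ℕ := bif Nat.blt j 399 then (eT_391_399 j) else (eT_399_407 j)
def eT_407_409 (j : ℕ) : ℕ := bif Nat.blt j 408 then E_407 else E_408
def eT_409_411 (j : ℕ) : ℕ := bif Nat.blt j 410 then E_409 else E_410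
def eT_407_411 (j : ℕ) : ℕ := bif Nat.blt j 409 then (eT_407_409 j) else (eT_409_411 j)
def eT_411_413 (j : ℕ) : ℕ := bif Nat.blt j 412 then E_411 else E_412
def eT_413_415 (j : ℕ) : ℕ := bif Nat.blt j 414 then E_413 else E_414
def eT_411_415 (j : ℕ) : ℕ := bif Nat.blt j 413 then (eT_411_413 j) else (eT_413_415 j)
def eT_407_415 (j : ℕ) : ℕ := bif Nat.blt j 411 then (eT_407_411 j) else (eT_411_415 j)
def eT_415_417 (j : ℕ) : ℕ := bif Nat.blt j 416 then E_415 else E_416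
def eT_417_419 (j : ℕ) : ℕ := bif Nat.blt j 418 then E_417 else E_418
def eT_415_419 (j : ℕ) : ℕ := bif Nat.blt j 417 then (eT_415_417 j) else (eT_417_419 j)
def eT_419_421 (j : ℕ) : ℕ := bif Nat.blt j 420 then E_419 else E_420
def eT_421_423 (j : ℕ) : ℕ := bif Nat.blt j 422 then E_421 else E_422
def eT_419_423 (j : ℕ) : ℕ := bif Nat.blt j 421 then (eT_419_421 j) else (eT_421_423 j)
def eT_415_423 (j : ℕ) : ℕ := bif Nat.blt j 419 then (eT_415_419 j) else (eT_419_423 j)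
def eT_407_423 (j : ℕ) : ℕ := bif Nat.blt j 415 then (eT_407_415 j) else (eT_415_423 j)
def eT_391_423 (j : ℕ) : ℕ := bif Nat.blt j 407 then (eT_391_407 j) else (eT_407_423 j)
def eT_423_425 (j : ℕ) : ℕ := bif Nat.blt j 424 then E_423 else E_424
def eT_425_427 (j : ℕ) : ℕ := bif Nat.blt j 426 then E_425 else E_426
def eT_423_427 (j : ℕ) : ℕ := bif Nat.blt j 425 then (eT_423_425 j) else (eT_425_427 j)
def eT_427_429 (j : ℕ) : ℕ := bif Nat.blt j 428 then E_427 else E_428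
def eT_429_431 (j : ℕ) : ℕ := bif Nat.blt j 430 then E_429 else E_430
def eT_427_431 (j : ℕ) : ℕ := bif Nat.blt j 429 then (eT_427_429 j) else (eT_429_431 j)
def eT_423_431 (j : ℕ) : ℕ := bif Nat.blt j 427 then (eT_423_427 j) else (eT_427_431 j)
def eT_431_433 (j : ℕ) : ℕ := bif Nat.blt j 432 then E_431 else E_432
def eT_433_435 (j : ℕ) : ℕ := bif Nat.blt j 434 then E_433 else E_434
def eT_431_435 (j : ℕ) : ℕ := bif Nat.blt j 433 then (eT_431_433 j) else (eT_433_435 j)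
def eT_435_437 (j : ℕ) : ℕ := bif Nat.blt j 436 then E_435 else E_436
def eT_437_439 (j : ℕ) : ℕ := bif Nat.blt j 438 then E_437 else E_438
def eT_435_439 (j : ℕ) : ℕ := bif Nat.blt j 437 then (eT_435_437 j) else (eT_437_439 j)
def eT_431_439 (j : ℕ) : ℕ := bif Nat.blt j 435 then (eT_431_435 j) else (eT_435_439 j)
def eT_423_439 (j : ℕ) : ℕ := bif Nat.blt j 431 then (eT_423_431 j) else (eT_431_439 j)
def eT_439_441 (j : ℕ) : ℕ := bif Nat.blt j 440 then E_439 else E_440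
def eT_441_443 (j : ℕ) : ℕ := bif Nat.blt j 442 then E_441 else E_442
def eT_439_443 (j : ℕ) : ℕ := bif Nat.blt j 441 then (eT_439_441 j) else (eT_441_443 j)
def eT_443_445 (j : ℕ) : ℕ := bif Nat.blt j 444 then E_443 else E_444
def eT_445_447 (j : ℕ) : ℕ := bif Nat.blt j 446 then E_445 else E_446
def eT_443_447 (j : ℕ) : ℕ := bif Nat.blt j 445 then (eT_443_445 j) else (eT_445_447 j)
def eT_439_447 (j : ℕ) : ℕ := bif Nat.blt j 443 then (eT_439_443 j) else (eT_443_447 j)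
def eT_447_449 (j : ℕ) : ℕ := bif Nat.blt j 448 then E_447 else E_448
def eT_449_451 (j : ℕ) : ℕ := bif Nat.blt j 450 then E_449 else E_450
def eT_447_451 (j : ℕ) : ℕ := bif Nat.blt j 449 then (eT_447_449 j) else (eT_449_451 j)
def eT_451_453 (j : ℕ) : ℕ := bif Nat.blt j 452 then E_451 else E_452
def eT_454_456 (j : ℕ) : ℕ := bif Nat.blt j 455 then E_454 else E_455
def eT_453_456 (j : ℕ) : ℕ := bif Nat.blt j 454 then E_453 else (eT_454_456 j)
def eT_451_456 (j : ℕ) : ℕ := bif Nat.blt j 453 then (eT_451_453 j) else (eT_453_456 j)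
def eT_447_456 (j : ℕ) : ℕ := bif Nat.blt j 451 then (eT_447_451 j) else (eT_451_456 j)
def eT_439_456 (j : ℕ) : ℕ := bif Nat.blt j 447 then (eT_439_447 j) else (eT_447_456 j)
def eT_423_456 (j : ℕ) : ℕ := bif Nat.blt j 439 then (eT_423_439 j) else (eT_439_456 j)
def eT_391_456 (j : ℕ) : ℕ := bif Nat.blt j 423 then (eT_391_423 j) else (eT_423_456 j)
def eT_456_458 (j : ℕ) : ℕ := bif Nat.blt j 457 then E_456 else E_457
def eT_458_460 (j : ℕ) : ℕ := bif Nat.blt j 459 then E_458 else E_459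
def eT_456_460 (j : ℕ) : ℕ := bif Nat.blt j 458 then (eT_456_458 j) else (eT_458_460 j)
def eT_460_462 (j : ℕ) : ℕ := bif Nat.blt j 461 then E_460 else E_461
def eT_462_464 (j : ℕ) : ℕ := bif Nat.blt j 463 then E_462 else E_463
def eT_460_464 (j : ℕ) : ℕ := bif Nat.blt j 462 then (eT_460_462 j) else (eT_462_464 j)
def eT_456_464 (j : ℕ) : ℕ := bif Nat.blt j 460 then (eT_456_460 j) else (eT_460_464 j)
def eT_464_466 (j : ℕ) : ℕ := bif Nat.blt j 465 then E_464 else E_465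
def eT_466_468 (j : ℕ) : ℕ := bif Nat.blt j 467 then E_466 else E_467
def eT_464_468 (j : ℕ) : ℕ := bif Nat.blt j 466 then (eT_464_466 j) else (eT_466_468 j)
def eT_468_470 (j : ℕ) : ℕ := bif Nat.blt j 469 then E_468 else E_469
def eT_470_472 (j : ℕ) : ℕ := bif Nat.blt j 471 then E_470 else E_471
def eT_468_472 (j : ℕ) : ℕ := bif Nat.blt j 470 then (eT_468_470 j) else (eT_470_472 j)
def eT_464_472 (j : ℕ) : ℕ := bif Nat.blt j 468 then (eT_464_468 j) else (eT_468_472 j)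
def eT_456_472 (j : ℕ) : ℕ := bif Nat.blt j 464 then (eT_456_464 j) else (eT_464_472 j)
def eT_472_474 (j : ℕ) : ℕ := bif Nat.blt j 473 then E_472 else E_473
def eT_474_476 (j : ℕ) : ℕ := bif Nat.blt j 475 then E_474 else E_475
def eT_472_476 (j : ℕ) : ℕ := bif Nat.blt j 474 then (eT_472_474 j) else (eT_474_476 j)
def eT_476_478 (j : ℕ) : ℕ := bif Nat.blt j 477 then E_476 else E_477
def eT_478_480 (j : ℕ) : ℕ := bif Nat.blt j 479 then E_478 else E_479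
def eT_476_480 (j : ℕ) : ℕ := bif Nat.blt j 478 then (eT_476_478 j) else (eT_478_480 j)
def eT_472_480 (j : ℕ) : ℕ := bif Nat.blt j 476 then (eT_472_476 j) else (eT_476_480 j)
def eT_480_482 (j : ℕ) : ℕ := bif Nat.blt j 481 then E_480 else E_481
def eT_482_484 (j : ℕ) : ℕ := bif Nat.blt j 483 then E_482 else E_483
def eT_480_484 (j : ℕ) : ℕ := bif Nat.blt j 482 then (eT_480_482 j) else (eT_482_484 j)
def eT_484_486 (j : ℕ) : ℕ := bif Nat.blt j 485 then E_484 else E_485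
def eT_487_489 (j : ℕ) : ℕ := bif Nat.blt j 488 then E_487 else E_488
def eT_486_489 (j : ℕ) : ℕ := bif Nat.blt j 487 then E_486 else (eT_487_489 j)
def eT_484_489 (j : ℕ) : ℕ := bif Nat.blt j 486 then (eT_484_486 j) else (eT_486_489 j)
def eT_480_489 (j : ℕ) : ℕ := bif Nat.blt j 484 then (eT_480_484 j) else (eT_484_489 j)
def eT_472_489 (j : ℕ) : ℕ := bif Nat.blt j 480 then (eT_472_480 j) else (eT_480_489 j)
def eT_456_489 (j : ℕ) : ℕ := bif Nat.blt j 472 then (eT_456_472 j) else (eT_472_489 j)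
def eT_489_491 (j : ℕ) : ℕ := bif Nat.blt j 490 then E_489 else E_490
def eT_491_493 (j : ℕ) : ℕ := bif Nat.blt j 492 then E_491 else E_492
def eT_489_493 (j : ℕ) : ℕ := bif Nat.blt j 491 then (eT_489_491 j) else (eT_491_493 j)
def eT_493_495 (j : ℕ) : ℕ := bif Nat.blt j 494 then E_493 else E_494
def eT_495_497 (j : ℕ) : ℕ := bif Nat.blt j 496 then E_495 else E_496
def eT_493_497 (j : ℕ) : ℕ := bif Nat.blt j 495 then (eT_493_495 j) else (eT_495_497 j)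
def eT_489_497 (j : ℕ) : ℕ := bif Nat.blt j 493 then (eT_489_493 j) else (eT_493_497 j)
def eT_497_499 (j : ℕ) : ℕ := bif Nat.blt j 498 then E_497 else E_498
def eT_499_501 (j : ℕ) : ℕ := bif Nat.blt j 500 then E_499 else E_500
def eT_497_501 (j : ℕ) : ℕ := bif Nat.blt j 499 then (eT_497_499 j) else (eT_499_501 j)
def eT_501_503 (j : ℕ) : ℕ := bif Nat.blt j 502 then E_501 else E_502
def eT_503_505 (j : ℕ) : ℕ := bif Nat.blt j 504 then E_503 else E_504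
def eT_501_505 (j : ℕ) : ℕ := bif Nat.blt j 503 then (eT_501_503 j) else (eT_503_505 j)
def eT_497_505 (j : ℕ) : ℕ := bif Nat.blt j 501 then (eT_497_501 j) else (eT_501_505 j)
def eT_489_505 (j : ℕ) : ℕ := bif Nat.blt j 497 then (eT_489_497 j) else (eT_497_505 j)
def eT_505_507 (j : ℕ) : ℕ := bif Nat.blt j 506 then E_505 else E_506
def eT_507_509 (j : ℕ) : ℕ := bif Nat.blt j 508 then E_507 else E_508
def eT_505_509 (j : ℕ) : ℕ := bif Nat.blt j 507 then (eT_505_507 j) else (eT_507_509 j)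
def eT_509_511 (j : ℕ) : ℕ := bif Nat.blt j 510 then E_509 else E_510
def eT_511_513 (j : ℕ) : ℕ := bif Nat.blt j 512 then E_511 else E_512
def eT_509_513 (j : ℕ) : ℕ := bif Nat.blt j 511 then (eT_509_511 j) else (eT_511_513 j)
def eT_505_513 (j : ℕ) : ℕ := bif Nat.blt j 509 then (eT_505_509 j) else (eT_509_513 j)
def eT_513_515 (j : ℕ) : ℕ := bif Nat.blt j 514 then E_513 else E_514
def eT_515_517 (j : ℕ) : ℕ := bif Nat.blt j 516 then E_515 else E_516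
def eT_513_517 (j : ℕ) : ℕ := bif Nat.blt j 515 then (eT_513_515 j) else (eT_515_517 j)
def eT_517_519 (j : ℕ) : ℕ := bif Nat.blt j 518 then E_517 else E_518
def eT_520_522 (j : ℕ) : ℕ := bif Nat.blt j 521 then E_520 else E_521
def eT_519_522 (j : ℕ) : ℕ := bif Nat.blt j 520 then E_519 else (eT_520_522 j)
def eT_517_522 (j : ℕ) : ℕ := bif Nat.blt j 519 then (eT_517_519 j) else (eT_519_522 j)
def eT_513_522 (j : ℕ) : ℕ := bif Nat.blt j 517 then (eT_513_517 j) else (eT_517_522 j)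
def eT_505_522 (j : ℕ) : ℕ := bif Nat.blt j 513 then (eT_505_513 j) else (eT_513_522 j)
def eT_489_522 (j : ℕ) : ℕ := bif Nat.blt j 505 then (eT_489_505 j) else (eT_505_522 j)
def eT_456_522 (j : ℕ) : ℕ := bif Nat.blt j 489 then (eT_456_489 j) else (eT_489_522 j)
def eT_391_522 (j : ℕ) : ℕ := bif Nat.blt j 456 then (eT_391_456 j) else (eT_456_522 j)
def eT_261_522 (j : ℕ) : ℕ := bif Nat.blt j 391 then (eT_261_391 j) else (eT_391_522 j)
def eT_0_522 (j : ℕ) : ℕ := bif Nat.blt j 261 then (eT_0_261 j) else (eT_261_522 j)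
def eT (j : ℕ) : ℕ := (eT_0_522 j)
noncomputable def chunkF (h : ℕ) : ℕ := Nat.rec (motive := fun _ => ℕ) (eT 0) (fun n _ => eT (Nat.succ n)) h
noncomputable def Eo (r : ℕ) : ℕ := Nat.land (Nat.shiftRight (chunkF (Nat.shiftRight r 8)) (Nat.mul (Nat.land r 255) 54)) 18014398509481983
def invT : ℕ := 0xffef7cefae78df6d74cf2c70beeb6caeaa689e69648e28607de75c6da6585d65544d24503ce34c2ca2481c61440c2040
def inv (y : ℕ) : ℕ := invOf invT y
def Wt_0_2 (j : ℕ) : List ℕ := bif Nat.blt j 1 then [nat_lit 7, nat_lit 0, nat_lit 7, nat_lit 0, nat_lit 7, nat_lit 0] else [nat_lit 2, nat_lit 0, nat_lit 7, nat_lit 4, nat_lit 2, nat_lit 3, nat_lit 7, nat_lit 3]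
def Wt_2_4 (j : ℕ) : List ℕ := bif Nat.blt j 3 then [nat_lit 4, nat_lit 7, nat_lit 0, nat_lit 2, nat_lit 3, nat_lit 7, nat_lit 3, nat_lit 2] else [nat_lit 4, nat_lit 1, nat_lit 0, nat_lit 4, nat_lit 1]
def Wt_0_4 (j : ℕ) : List ℕ := bif Nat.blt j 2 then (Wt_0_2 j) else (Wt_2_4 j)
def Wt_4_6 (j : ℕ) : List ℕ := bif Nat.blt j 5 then [nat_lit 0, nat_lit 6, nat_lit 3, nat_lit 2, nat_lit 0, nat_lit 6] else [nat_lit 0, nat_lit 1, nat_lit 0, nat_lit 1]
def Wt_7_9 (j : ℕ) : List ℕ := bif Nat.blt j 8 then [nat_lit 4, nat_lit 3, nat_lit 4, nat_lit 3] else [nat_lit 1, nat_lit 5, nat_lit 7, nat_lit 1, nat_lit 3, nat_lit 6, nat_lit 5, nat_lit 4, nat_lit 7, nat_lit 0, nat_lit 3]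
def Wt_6_9 (j : ℕ) : List ℕ := bif Nat.blt j 7 then [nat_lit 3, nat_lit 1, nat_lit 0, nat_lit 3, nat_lit 2, nat_lit 1] else (Wt_7_9 j)
def Wt_4_9 (j : ℕ) : List ℕ := bif Nat.blt j 6 then (Wt_4_6 j) else (Wt_6_9 j)
def Wt_0_9 (j : ℕ) : List ℕ := bif Nat.blt j 4 then (Wt_0_4 j) else (Wt_4_9 j)
def Wt_9_11 (j : ℕ) : List ℕ := bif Nat.blt j 10 then [nat_lit 1, nat_lit 2, nat_lit 1, nat_lit 2] else [nat_lit 2, nat_lit 1, nat_lit 3, nat_lit 1, nat_lit 0, nat_lit 3]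
def Wt_11_13 (j : ℕ) : List ℕ := bif Nat.blt j 12 then [nat_lit 6, nat_lit 5, nat_lit 4, nat_lit 7, nat_lit 0, nat_lit 3, nat_lit 1, nat_lit 5, nat_lit 7, nat_lit 1, nat_lit 3] else [nat_lit 7, nat_lit 3, nat_lit 2, nat_lit 0, nat_lit 7, nat_lit 4, nat_lit 2, nat_lit 3]
def Wt_9_13 (j : ℕ) : List ℕ := bif Nat.blt j 11 then (Wt_9_11 j) else (Wt_11_13 j)
def Wt_13_15 (j : ℕ) : List ℕ := bif Nat.blt j 14 then [nat_lit 2, nat_lit 1, nat_lit 2, nat_lit 1] else [nat_lit 4, nat_lit 5, nat_lit 4, nat_lit 3, nat_lit 5]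
def Wt_16_18 (j : ℕ) : List ℕ := bif Nat.blt j 17 then [nat_lit 6, nat_lit 1, nat_lit 5, nat_lit 6, nat_lit 4, nat_lit 6, nat_lit 5, nat_lit 3, nat_lit 1, nat_lit 0] else [nat_lit 63, nat_lit 0, nat_lit 6, nat_lit 0, nat_lit 2, nat_lit 3, nat_lit 6]
def Wt_15_18 (j : ℕ) : List ℕ := bif Nat.blt j 16 then [nat_lit 3, nat_lit 4, nat_lit 5, nat_lit 4, nat_lit 5] else (Wt_16_18 j)
def Wt_13_18 (j : ℕ) : List ℕ := bif Nat.blt j 15 then (Wt_13_15 j) else (Wt_15_18 j)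
def Wt_9_18 (j : ℕ) : List ℕ := bif Nat.blt j 13 then (Wt_9_13 j) else (Wt_13_18 j)
def Wt_0_18 (j : ℕ) : List ℕ := bif Nat.blt j 9 then (Wt_0_9 j) else (Wt_9_18 j)
def Wt_18_20 (j : ℕ) : List ℕ := bif Nat.blt j 19 then [nat_lit 6, nat_lit 6, nat_lit 63] else [nat_lit 1, nat_lit 6, nat_lit 1, nat_lit 6, nat_lit 1, nat_lit 6]
def Wt_20_22 (j : ℕ) : List ℕ := bif Nat.blt j 21 then [nat_lit 1, nat_lit 0, nat_lit 4, nat_lit 1, nat_lit 4] else [nat_lit 0, nat_lit 1, nat_lit 4, nat_lit 1, nat_lit 4]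
def Wt_18_22 (j : ℕ) : List ℕ := bif Nat.blt j 20 then (Wt_18_20 j) else (Wt_20_22 j)
def Wt_22_24 (j : ℕ) : List ℕ := bif Nat.blt j 23 then [nat_lit 5, nat_lit 4, nat_lit 3, nat_lit 5, nat_lit 4] else [nat_lit 63, nat_lit 1, nat_lit 5, nat_lit 1, nat_lit 5, nat_lit 1, nat_lit 5]
def Wt_25_27 (j : ℕ) : List ℕ := bif Nat.blt j 26 then [nat_lit 63, nat_lit 0, nat_lit 2, nat_lit 0, nat_lit 5, nat_lit 0, nat_lit 2, nat_lit 0, nat_lit 5] else [nat_lit 63, nat_lit 1, nat_lit 63, nat_lit 1]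
def Wt_24_27 (j : ℕ) : List ℕ := bif Nat.blt j 25 then [nat_lit 0, nat_lit 0, nat_lit 63] else (Wt_25_27 j)
def Wt_22_27 (j : ℕ) : List ℕ := bif Nat.blt j 24 then (Wt_22_24 j) else (Wt_24_27 j)
def Wt_18_27 (j : ℕ) : List ℕ := bif Nat.blt j 22 then (Wt_18_22 j) else (Wt_22_27 j)
def Wt_27_29 (j : ℕ) : List ℕ := bif Nat.blt j 28 then [nat_lit 63, nat_lit 3, nat_lit 63, nat_lit 3] else [nat_lit 63, nat_lit 0, nat_lit 63, nat_lit 0]
def Wt_30_32 (j : ℕ) : List ℕ := bif Nat.blt j 31 then [nat_lit 63, nat_lit 63, nat_lit 3, nat_lit 63, nat_lit 3] else [nat_lit 63, nat_lit 5, nat_lit 63, nat_lit 5]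
def Wt_29_32 (j : ℕ) : List ℕ := bif Nat.blt j 30 then [nat_lit 63, nat_lit 2, nat_lit 63, nat_lit 2] else (Wt_30_32 j)
def Wt_27_32 (j : ℕ) : List ℕ := bif Nat.blt j 29 then (Wt_27_29 j) else (Wt_29_32 j)
def Wt_32_34 (j : ℕ) : List ℕ := bif Nat.blt j 33 then [nat_lit 2, nat_lit 2, nat_lit 63] else [nat_lit 3, nat_lit 3, nat_lit 63]
def Wt_35_37 (j : ℕ) : List ℕ := bif Nat.blt j 36 then [nat_lit 63, nat_lit 63, nat_lit 63] else [nat_lit 4, nat_lit 4, nat_lit 63]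
def Wt_34_37 (j : ℕ) : List ℕ := bif Nat.blt j 35 then [nat_lit 63, nat_lit 5, nat_lit 63, nat_lit 5, nat_lit 63] else (Wt_35_37 j)
def Wt_32_37 (j : ℕ) : List ℕ := bif Nat.blt j 34 then (Wt_32_34 j) else (Wt_34_37 j)
def Wt_27_37 (j : ℕ) : List ℕ := bif Nat.blt j 32 then (Wt_27_32 j) else (Wt_32_37 j)
def Wt_18_37 (j : ℕ) : List ℕ := bif Nat.blt j 27 then (Wt_18_27 j) else (Wt_27_37 j)
def Wt_0_37 (j : ℕ) : List ℕ := bif Nat.blt j 18 then (Wt_0_18 j) else (Wt_18_37 j)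
def Wt_37_39 (j : ℕ) : List ℕ := bif Nat.blt j 38 then [nat_lit 5, nat_lit 5, nat_lit 63] else [nat_lit 1, nat_lit 1, nat_lit 63]
def Wt_39_41 (j : ℕ) : List ℕ := bif Nat.blt j 40 then [nat_lit 63, nat_lit 3, nat_lit 2, nat_lit 1, nat_lit 3, nat_lit 1, nat_lit 0] else [nat_lit 7, nat_lit 63, nat_lit 7, nat_lit 63]
def Wt_37_41 (j : ℕ) : List ℕ := bif Nat.blt j 39 then (Wt_37_39 j) else (Wt_39_41 j)
def Wt_41_43 (j : ℕ) : List ℕ := bif Nat.blt j 42 then [nat_lit 63, nat_lit 4, nat_lit 1, nat_lit 4, nat_lit 1, nat_lit 0] else [nat_lit 5, nat_lit 1, nat_lit 3, nat_lit 0, nat_lit 7, nat_lit 4, nat_lit 5, nat_lit 6, nat_lit 3, nat_lit 1, nat_lit 7]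
def Wt_44_46 (j : ℕ) : List ℕ := bif Nat.blt j 45 then [nat_lit 1, nat_lit 5, nat_lit 1, nat_lit 5, nat_lit 1, nat_lit 5] else [nat_lit 3, nat_lit 5, nat_lit 4, nat_lit 5, nat_lit 4]
def Wt_43_46 (j : ℕ) : List ℕ := bif Nat.blt j 44 then [nat_lit 4, nat_lit 5, nat_lit 6, nat_lit 3, nat_lit 1, nat_lit 7, nat_lit 5, nat_lit 1, nat_lit 3, nat_lit 0, nat_lit 7] else (Wt_44_46 j)
def Wt_41_46 (j : ℕ) : List ℕ := bif Nat.blt j 43 then (Wt_41_43 j) else (Wt_43_46 j)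
def Wt_37_46 (j : ℕ) : List ℕ := bif Nat.blt j 41 then (Wt_37_41 j) else (Wt_41_46 j)
def Wt_46_48 (j : ℕ) : List ℕ := bif Nat.blt j 47 then [nat_lit 4, nat_lit 5, nat_lit 3, nat_lit 4, nat_lit 5] else [nat_lit 0, nat_lit 4, nat_lit 1, nat_lit 4, nat_lit 1]
def Wt_48_50 (j : ℕ) : List ℕ := bif Nat.blt j 49 then [nat_lit 3, nat_lit 6, nat_lit 0, nat_lit 6, nat_lit 0, nat_lit 2] else [nat_lit 0, nat_lit 1, nat_lit 3, nat_lit 1, nat_lit 2, nat_lit 3]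
def Wt_46_50 (j : ℕ) : List ℕ := bif Nat.blt j 48 then (Wt_46_48 j) else (Wt_48_50 j)
def Wt_50_52 (j : ℕ) : List ℕ := bif Nat.blt j 51 then [nat_lit 2, nat_lit 0, nat_lit 6, nat_lit 0, nat_lit 6, nat_lit 3] else [nat_lit 1, nat_lit 3, nat_lit 1, nat_lit 0, nat_lit 3, nat_lit 2]
def Wt_53_55 (j : ℕ) : List ℕ := bif Nat.blt j 54 then [nat_lit 0, nat_lit 6, nat_lit 0, nat_lit 6, nat_lit 3, nat_lit 2] else [nat_lit 1, nat_lit 4, nat_lit 1, nat_lit 0, nat_lit 4]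
def Wt_52_55 (j : ℕ) : List ℕ := bif Nat.blt j 53 then [nat_lit 6, nat_lit 0, nat_lit 6, nat_lit 3, nat_lit 2, nat_lit 0] else (Wt_53_55 j)
def Wt_50_55 (j : ℕ) : List ℕ := bif Nat.blt j 52 then (Wt_50_52 j) else (Wt_52_55 j)
def Wt_46_55 (j : ℕ) : List ℕ := bif Nat.blt j 50 then (Wt_46_50 j) else (Wt_50_55 j)
def Wt_37_55 (j : ℕ) : List ℕ := bif Nat.blt j 46 then (Wt_37_46 j) else (Wt_46_55 j)
def Wt_55_57 (j : ℕ) : List ℕ := bif Nat.blt j 56 then [nat_lit 1, nat_lit 0, nat_lit 1, nat_lit 0] else [nat_lit 4, nat_lit 1, nat_lit 4, nat_lit 1, nat_lit 0]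
def Wt_57_59 (j : ℕ) : List ℕ := bif Nat.blt j 58 then [nat_lit 6, nat_lit 4, nat_lit 6, nat_lit 5, nat_lit 3, nat_lit 1, nat_lit 0, nat_lit 6, nat_lit 1, nat_lit 5] else [nat_lit 6, nat_lit 3, nat_lit 1, nat_lit 7, nat_lit 5, nat_lit 1, nat_lit 3, nat_lit 0, nat_lit 7, nat_lit 4, nat_lit 5]
def Wt_55_59 (j : ℕ) : List ℕ := bif Nat.blt j 57 then (Wt_55_57 j) else (Wt_57_59 j)
def Wt_59_61 (j : ℕ) : List ℕ := bif Nat.blt j 60 then [nat_lit 2, nat_lit 3, nat_lit 0, nat_lit 1, nat_lit 3, nat_lit 1] else [nat_lit 3, nat_lit 4, nat_lit 3, nat_lit 4]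
def Wt_62_64 (j : ℕ) : List ℕ := bif Nat.blt j 63 then [nat_lit 0, nat_lit 2, nat_lit 3, nat_lit 6, nat_lit 0, nat_lit 6] else [nat_lit 5, nat_lit 1, nat_lit 5, nat_lit 1, nat_lit 5, nat_lit 1]
def Wt_61_64 (j : ℕ) : List ℕ := bif Nat.blt j 62 then [nat_lit 3, nat_lit 2, nat_lit 0, nat_lit 6, nat_lit 0, nat_lit 6] else (Wt_62_64 j)
def Wt_59_64 (j : ℕ) : List ℕ := bif Nat.blt j 61 then (Wt_59_61 j) else (Wt_61_64 j)
def Wt_55_64 (j : ℕ) : List ℕ := bif Nat.blt j 59 then (Wt_55_59 j) else (Wt_59_64 j)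
def Wt_64_66 (j : ℕ) : List ℕ := bif Nat.blt j 65 then [nat_lit 5, nat_lit 1, nat_lit 6, nat_lit 0, nat_lit 1, nat_lit 3, nat_lit 5, nat_lit 6, nat_lit 4, nat_lit 6] else [nat_lit 4, nat_lit 6, nat_lit 5, nat_lit 3, nat_lit 1, nat_lit 0, nat_lit 6, nat_lit 1, nat_lit 5, nat_lit 6]
def Wt_67_69 (j : ℕ) : List ℕ := bif Nat.blt j 68 then [nat_lit 7, nat_lit 7, nat_lit 63] else [nat_lit 3, nat_lit 0, nat_lit 1, nat_lit 3, nat_lit 1, nat_lit 2]
def Wt_66_69 (j : ℕ) : List ℕ := bif Nat.blt j 67 then [nat_lit 63, nat_lit 0, nat_lit 1, nat_lit 4, nat_lit 1, nat_lit 4] else (Wt_67_69 j)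
def Wt_64_69 (j : ℕ) : List ℕ := bif Nat.blt j 66 then (Wt_64_66 j) else (Wt_66_69 j)
def Wt_69_71 (j : ℕ) : List ℕ := bif Nat.blt j 70 then [nat_lit 0, nat_lit 5, nat_lit 0, nat_lit 2, nat_lit 0, nat_lit 5, nat_lit 0, nat_lit 2] else [nat_lit 6, nat_lit 3, nat_lit 2, nat_lit 0, nat_lit 6, nat_lit 0]
def Wt_72_74 (j : ℕ) : List ℕ := bif Nat.blt j 73 then [nat_lit 63, nat_lit 5, nat_lit 6, nat_lit 4, nat_lit 6, nat_lit 5, nat_lit 1, nat_lit 6, nat_lit 0, nat_lit 1, nat_lit 3] else [nat_lit 5, nat_lit 0, nat_lit 2, nat_lit 0, nat_lit 5, nat_lit 0, nat_lit 2, nat_lit 0]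
def Wt_71_74 (j : ℕ) : List ℕ := bif Nat.blt j 72 then [nat_lit 63, nat_lit 3, nat_lit 1, nat_lit 2, nat_lit 3, nat_lit 0, nat_lit 1] else (Wt_72_74 j)
def Wt_69_74 (j : ℕ) : List ℕ := bif Nat.blt j 71 then (Wt_69_71 j) else (Wt_71_74 j)
def Wt_64_74 (j : ℕ) : List ℕ := bif Nat.blt j 69 then (Wt_64_69 j) else (Wt_69_74 j)
def Wt_55_74 (j : ℕ) : List ℕ := bif Nat.blt j 64 then (Wt_55_64 j) else (Wt_64_74 j)
def Wt_37_74 (j : ℕ) : List ℕ := bif Nat.blt j 55 then (Wt_37_55 j) else (Wt_55_74 j)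
def Wt_0_74 (j : ℕ) : List ℕ := bif Nat.blt j 37 then (Wt_0_37 j) else (Wt_37_74 j)
def Wt_74_76 (j : ℕ) : List ℕ := bif Nat.blt j 75 then [nat_lit 6, nat_lit 5, nat_lit 3, nat_lit 1, nat_lit 0, nat_lit 6, nat_lit 1, nat_lit 5, nat_lit 6, nat_lit 4] else [nat_lit 4, nat_lit 2, nat_lit 3, nat_lit 7, nat_lit 3, nat_lit 2, nat_lit 0, nat_lit 7]
def Wt_76_78 (j : ℕ) : List ℕ := bif Nat.blt j 77 then [nat_lit 5, nat_lit 7, nat_lit 1, nat_lit 3, nat_lit 6, nat_lit 5, nat_lit 4, nat_lit 7, nat_lit 0, nat_lit 3, nat_lit 1] else [nat_lit 5, nat_lit 4, nat_lit 7, nat_lit 0, nat_lit 3, nat_lit 1, nat_lit 5, nat_lit 7, nat_lit 1, nat_lit 3, nat_lit 6]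
def Wt_74_78 (j : ℕ) : List ℕ := bif Nat.blt j 76 then (Wt_74_76 j) else (Wt_76_78 j)
def Wt_78_80 (j : ℕ) : List ℕ := bif Nat.blt j 79 then [nat_lit 2, nat_lit 3, nat_lit 6, nat_lit 0, nat_lit 6, nat_lit 0] else [nat_lit 2, nat_lit 0, nat_lit 5, nat_lit 0, nat_lit 2, nat_lit 0, nat_lit 5, nat_lit 0]
def Wt_81_83 (j : ℕ) : List ℕ := bif Nat.blt j 82 then [nat_lit 2, nat_lit 4, nat_lit 7, nat_lit 0, nat_lit 2, nat_lit 3, nat_lit 7, nat_lit 3] else [nat_lit 0, nat_lit 2, nat_lit 3, nat_lit 7, nat_lit 3, nat_lit 2, nat_lit 4, nat_lit 7]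
def Wt_80_83 (j : ℕ) : List ℕ := bif Nat.blt j 81 then [nat_lit 0, nat_lit 3, nat_lit 0, nat_lit 3, nat_lit 0, nat_lit 3, nat_lit 0, nat_lit 3, nat_lit 0, nat_lit 3, nat_lit 0, nat_lit 3, nat_lit 0, nat_lit 3] else (Wt_81_83 j)
def Wt_78_83 (j : ℕ) : List ℕ := bif Nat.blt j 80 then (Wt_78_80 j) else (Wt_80_83 j)
def Wt_74_83 (j : ℕ) : List ℕ := bif Nat.blt j 78 then (Wt_74_78 j) else (Wt_78_83 j)
def Wt_83_85 (j : ℕ) : List ℕ := bif Nat.blt j 84 then [nat_lit 2, nat_lit 3, nat_lit 7, nat_lit 3, nat_lit 2, nat_lit 0, nat_lit 7, nat_lit 4] else [nat_lit 5, nat_lit 7, nat_lit 5, nat_lit 7, nat_lit 5, nat_lit 7, nat_lit 5, nat_lit 7, nat_lit 5, nat_lit 7, nat_lit 5, nat_lit 7]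
def Wt_85_87 (j : ℕ) : List ℕ := bif Nat.blt j 86 then [nat_lit 1, nat_lit 3, nat_lit 0, nat_lit 7, nat_lit 4, nat_lit 5, nat_lit 6, nat_lit 3, nat_lit 1, nat_lit 7, nat_lit 5] else [nat_lit 6, nat_lit 1, nat_lit 6, nat_lit 1, nat_lit 6, nat_lit 1]
def Wt_83_87 (j : ℕ) : List ℕ := bif Nat.blt j 85 then (Wt_83_85 j) else (Wt_85_87 j)
def Wt_87_89 (j : ℕ) : List ℕ := bif Nat.blt j 88 then [nat_lit 4, nat_lit 1, nat_lit 4, nat_lit 0, nat_lit 1] else [nat_lit 4, nat_lit 0, nat_lit 1, nat_lit 4, nat_lit 1]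
def Wt_90_92 (j : ℕ) : List ℕ := bif Nat.blt j 91 then [nat_lit 63, nat_lit 2, nat_lit 0, nat_lit 5, nat_lit 0, nat_lit 2, nat_lit 0, nat_lit 5, nat_lit 0] else [nat_lit 1, nat_lit 5, nat_lit 6, nat_lit 4, nat_lit 6, nat_lit 5, nat_lit 3, nat_lit 1, nat_lit 0, nat_lit 6]
def Wt_89_92 (j : ℕ) : List ℕ := bif Nat.blt j 90 then [nat_lit 2, nat_lit 63, nat_lit 2, nat_lit 63] else (Wt_90_92 j)
def Wt_87_92 (j : ℕ) : List ℕ := bif Nat.blt j 89 then (Wt_87_89 j) else (Wt_89_92 j)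
def Wt_83_92 (j : ℕ) : List ℕ := bif Nat.blt j 87 then (Wt_83_87 j) else (Wt_87_92 j)
def Wt_74_92 (j : ℕ) : List ℕ := bif Nat.blt j 83 then (Wt_74_83 j) else (Wt_83_92 j)
def Wt_92_94 (j : ℕ) : List ℕ := bif Nat.blt j 93 then [nat_lit 3, nat_lit 7, nat_lit 3, nat_lit 2, nat_lit 0, nat_lit 7, nat_lit 4, nat_lit 2] else [nat_lit 3, nat_lit 1, nat_lit 7, nat_lit 5, nat_lit 1, nat_lit 3, nat_lit 0, nat_lit 7, nat_lit 4, nat_lit 5, nat_lit 6]
def Wt_94_96 (j : ℕ) : List ℕ := bif Nat.blt j 95 then [nat_lit 0, nat_lit 6, nat_lit 1, nat_lit 5, nat_lit 6, nat_lit 4, nat_lit 6, nat_lit 5, nat_lit 3, nat_lit 1] else [nat_lit 3, nat_lit 2, nat_lit 1, nat_lit 3, nat_lit 1, nat_lit 0]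
def Wt_92_96 (j : ℕ) : List ℕ := bif Nat.blt j 94 then (Wt_92_94 j) else (Wt_94_96 j)
def Wt_96_98 (j : ℕ) : List ℕ := bif Nat.blt j 97 then [nat_lit 63, nat_lit 3, nat_lit 2, nat_lit 0, nat_lit 6, nat_lit 0, nat_lit 6] else [nat_lit 63, nat_lit 6, nat_lit 1, nat_lit 6, nat_lit 1, nat_lit 6, nat_lit 1]
def Wt_99_101 (j : ℕ) : List ℕ := bif Nat.blt j 100 then [nat_lit 1, nat_lit 0, nat_lit 3, nat_lit 2, nat_lit 1, nat_lit 3] else [nat_lit 6, nat_lit 0, nat_lit 6, nat_lit 0, nat_lit 2, nat_lit 3]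
def Wt_98_101 (j : ℕ) : List ℕ := bif Nat.blt j 99 then [nat_lit 1, nat_lit 3, nat_lit 1, nat_lit 2, nat_lit 3, nat_lit 0] else (Wt_99_101 j)
def Wt_96_101 (j : ℕ) : List ℕ := bif Nat.blt j 98 then (Wt_96_98 j) else (Wt_98_101 j)
def Wt_92_101 (j : ℕ) : List ℕ := bif Nat.blt j 96 then (Wt_92_96 j) else (Wt_96_101 j)
def Wt_101_103 (j : ℕ) : List ℕ := bif Nat.blt j 102 then [nat_lit 5, nat_lit 4, nat_lit 5, nat_lit 4, nat_lit 3] else [nat_lit 5, nat_lit 3, nat_lit 4, nat_lit 5, nat_lit 4]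
def Wt_104_106 (j : ℕ) : List ℕ := bif Nat.blt j 105 then [nat_lit 3, nat_lit 1, nat_lit 5, nat_lit 7, nat_lit 1, nat_lit 3, nat_lit 6, nat_lit 5, nat_lit 4, nat_lit 7, nat_lit 0] else [nat_lit 63, nat_lit 4, nat_lit 5, nat_lit 4, nat_lit 3, nat_lit 5]
def Wt_103_106 (j : ℕ) : List ℕ := bif Nat.blt j 104 then [nat_lit 0, nat_lit 7, nat_lit 4, nat_lit 5, nat_lit 6, nat_lit 3, nat_lit 1, nat_lit 7, nat_lit 5, nat_lit 1, nat_lit 3] else (Wt_104_106 j)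
def Wt_101_106 (j : ℕ) : List ℕ := bif Nat.blt j 103 then (Wt_101_103 j) else (Wt_103_106 j)
def Wt_106_108 (j : ℕ) : List ℕ := bif Nat.blt j 107 then [nat_lit 63, nat_lit 4, nat_lit 63, nat_lit 4] else [nat_lit 63, nat_lit 7, nat_lit 63, nat_lit 7]
def Wt_109_111 (j : ℕ) : List ℕ := bif Nat.blt j 110 then [nat_lit 63, nat_lit 1, nat_lit 63, nat_lit 1, nat_lit 63] else [nat_lit 63, nat_lit 3, nat_lit 63, nat_lit 3, nat_lit 63]
def Wt_108_111 (j : ℕ) : List ℕ := bif Nat.blt j 109 then [nat_lit 63, nat_lit 6, nat_lit 63, nat_lit 6] else (Wt_109_111 j)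
def Wt_106_111 (j : ℕ) : List ℕ := bif Nat.blt j 108 then (Wt_106_108 j) else (Wt_108_111 j)
def Wt_101_111 (j : ℕ) : List ℕ := bif Nat.blt j 106 then (Wt_101_106 j) else (Wt_106_111 j)
def Wt_92_111 (j : ℕ) : List ℕ := bif Nat.blt j 101 then (Wt_92_101 j) else (Wt_101_111 j)
def Wt_74_111 (j : ℕ) : List ℕ := bif Nat.blt j 92 then (Wt_74_92 j) else (Wt_92_111 j)
def Wt_111_113 (j : ℕ) : List ℕ := bif Nat.blt j 112 then [nat_lit 0, nat_lit 7, nat_lit 4, nat_lit 2, nat_lit 3, nat_lit 7, nat_lit 3, nat_lit 2] else [nat_lit 63, nat_lit 4, nat_lit 7, nat_lit 0, nat_lit 2, nat_lit 3, nat_lit 7, nat_lit 3, nat_lit 2]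
def Wt_113_115 (j : ℕ) : List ℕ := bif Nat.blt j 114 then [nat_lit 63, nat_lit 1, nat_lit 5, nat_lit 7, nat_lit 1, nat_lit 3, nat_lit 6, nat_lit 5, nat_lit 4, nat_lit 7, nat_lit 0, nat_lit 3] else [nat_lit 63, nat_lit 1, nat_lit 0, nat_lit 4, nat_lit 1, nat_lit 4]
def Wt_111_115 (j : ℕ) : List ℕ := bif Nat.blt j 113 then (Wt_111_113 j) else (Wt_113_115 j)
def Wt_115_117 (j : ℕ) : List ℕ := bif Nat.blt j 116 then [nat_lit 0, nat_lit 3, nat_lit 2, nat_lit 1, nat_lit 3, nat_lit 1] else [nat_lit 63, nat_lit 3, nat_lit 6, nat_lit 0, nat_lit 6, nat_lit 0, nat_lit 2]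
def Wt_118_120 (j : ℕ) : List ℕ := bif Nat.blt j 119 then [nat_lit 3, nat_lit 1, nat_lit 2, nat_lit 3, nat_lit 0, nat_lit 1] else [nat_lit 63, nat_lit 3, nat_lit 0, nat_lit 1, nat_lit 3, nat_lit 1, nat_lit 2]
def Wt_117_120 (j : ℕ) : List ℕ := bif Nat.blt j 118 then [nat_lit 1, nat_lit 4, nat_lit 1, nat_lit 4, nat_lit 0] else (Wt_118_120 j)
def Wt_115_120 (j : ℕ) : List ℕ := bif Nat.blt j 117 then (Wt_115_117 j) else (Wt_117_120 j)
def Wt_111_120 (j : ℕ) : List ℕ := bif Nat.blt j 115 then (Wt_111_115 j) else (Wt_115_120 j)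
def Wt_120_122 (j : ℕ) : List ℕ := bif Nat.blt j 121 then [nat_lit 63, nat_lit 0, nat_lit 2, nat_lit 3, nat_lit 7, nat_lit 3, nat_lit 2, nat_lit 4, nat_lit 7] else [nat_lit 63, nat_lit 0, nat_lit 5, nat_lit 0, nat_lit 2, nat_lit 0, nat_lit 5, nat_lit 0, nat_lit 2]
def Wt_122_124 (j : ℕ) : List ℕ := bif Nat.blt j 123 then [nat_lit 63, nat_lit 6, nat_lit 0, nat_lit 2, nat_lit 3, nat_lit 6, nat_lit 0] else [nat_lit 63, nat_lit 1, nat_lit 3, nat_lit 1, nat_lit 2, nat_lit 3, nat_lit 0]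
def Wt_120_124 (j : ℕ) : List ℕ := bif Nat.blt j 122 then (Wt_120_122 j) else (Wt_122_124 j)
def Wt_124_126 (j : ℕ) : List ℕ := bif Nat.blt j 125 then [nat_lit 63, nat_lit 5, nat_lit 1, nat_lit 3, nat_lit 0, nat_lit 7, nat_lit 4, nat_lit 5, nat_lit 6, nat_lit 3, nat_lit 1, nat_lit 7] else [nat_lit 4, nat_lit 3, nat_lit 5, nat_lit 4, nat_lit 5]
def Wt_127_129 (j : ℕ) : List ℕ := bif Nat.blt j 128 then [nat_lit 1, nat_lit 4, nat_lit 0, nat_lit 1, nat_lit 4] else [nat_lit 7, nat_lit 5, nat_lit 1, nat_lit 3, nat_lit 0, nat_lit 7, nat_lit 4, nat_lit 5, nat_lit 6, nat_lit 3, nat_lit 1]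
def Wt_126_129 (j : ℕ) : List ℕ := bif Nat.blt j 127 then [nat_lit 63, nat_lit 1, nat_lit 2, nat_lit 3, nat_lit 0, nat_lit 1, nat_lit 3] else (Wt_127_129 j)
def Wt_124_129 (j : ℕ) : List ℕ := bif Nat.blt j 126 then (Wt_124_126 j) else (Wt_126_129 j)
def Wt_120_129 (j : ℕ) : List ℕ := bif Nat.blt j 124 then (Wt_120_124 j) else (Wt_124_129 j)
def Wt_111_129 (j : ℕ) : List ℕ := bif Nat.blt j 120 then (Wt_111_120 j) else (Wt_120_129 j)
def Wt_129_131 (j : ℕ) : List ℕ := bif Nat.blt j 130 then [nat_lit 7, nat_lit 4, nat_lit 2, nat_lit 3, nat_lit 7, nat_lit 3, nat_lit 2, nat_lit 0] else [nat_lit 63, nat_lit 0, nat_lit 3, nat_lit 1, nat_lit 5, nat_lit 7, nat_lit 1, nat_lit 3, nat_lit 6, nat_lit 5, nat_lit 4, nat_lit 7]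
def Wt_131_133 (j : ℕ) : List ℕ := bif Nat.blt j 132 then [nat_lit 7, nat_lit 4, nat_lit 5, nat_lit 6, nat_lit 3, nat_lit 1, nat_lit 7, nat_lit 5, nat_lit 1, nat_lit 3, nat_lit 0] else [nat_lit 63, nat_lit 7, nat_lit 4, nat_lit 2, nat_lit 3, nat_lit 7, nat_lit 3, nat_lit 2, nat_lit 0]
def Wt_129_133 (j : ℕ) : List ℕ := bif Nat.blt j 131 then (Wt_129_131 j) else (Wt_131_133 j)
def Wt_133_135 (j : ℕ) : List ℕ := bif Nat.blt j 134 then [nat_lit 0, nat_lit 7, nat_lit 0, nat_lit 7, nat_lit 0, nat_lit 7] else [nat_lit 63, nat_lit 3, nat_lit 0, nat_lit 3, nat_lit 0, nat_lit 3, nat_lit 0, nat_lit 3, nat_lit 0, nat_lit 3, nat_lit 0, nat_lit 3, nat_lit 0, nat_lit 3, nat_lit 0]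
def Wt_136_138 (j : ℕ) : List ℕ := bif Nat.blt j 137 then [nat_lit 63, nat_lit 3, nat_lit 5, nat_lit 4, nat_lit 5, nat_lit 4] else [nat_lit 63, nat_lit 4, nat_lit 5, nat_lit 4, nat_lit 5, nat_lit 3]
def Wt_135_138 (j : ℕ) : List ℕ := bif Nat.blt j 136 then [nat_lit 63, nat_lit 5, nat_lit 7, nat_lit 1, nat_lit 3, nat_lit 6, nat_lit 5, nat_lit 4, nat_lit 7, nat_lit 0, nat_lit 3, nat_lit 1] else (Wt_136_138 j)
def Wt_133_138 (j : ℕ) : List ℕ := bif Nat.blt j 135 then (Wt_133_135 j) else (Wt_135_138 j)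
def Wt_129_138 (j : ℕ) : List ℕ := bif Nat.blt j 133 then (Wt_129_133 j) else (Wt_133_138 j)
def Wt_138_140 (j : ℕ) : List ℕ := bif Nat.blt j 139 then [nat_lit 63, nat_lit 1, nat_lit 3, nat_lit 1, nat_lit 0, nat_lit 3, nat_lit 2] else [nat_lit 63, nat_lit 2, nat_lit 3, nat_lit 0, nat_lit 1, nat_lit 3, nat_lit 1]
def Wt_141_143 (j : ℕ) : List ℕ := bif Nat.blt j 142 then [nat_lit 3, nat_lit 0, nat_lit 3, nat_lit 0, nat_lit 3, nat_lit 0, nat_lit 3, nat_lit 0, nat_lit 3, nat_lit 0, nat_lit 3, nat_lit 0, nat_lit 3, nat_lit 0] else [nat_lit 63, nat_lit 1, nat_lit 4, nat_lit 1, nat_lit 0, nat_lit 4]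
def Wt_140_143 (j : ℕ) : List ℕ := bif Nat.blt j 141 then [nat_lit 1, nat_lit 2, nat_lit 3, nat_lit 0, nat_lit 1, nat_lit 3] else (Wt_141_143 j)
def Wt_138_143 (j : ℕ) : List ℕ := bif Nat.blt j 140 then (Wt_138_140 j) else (Wt_140_143 j)
def Wt_143_145 (j : ℕ) : List ℕ := bif Nat.blt j 144 then [nat_lit 0, nat_lit 3, nat_lit 1, nat_lit 5, nat_lit 7, nat_lit 1, nat_lit 3, nat_lit 6, nat_lit 5, nat_lit 4, nat_lit 7] else [nat_lit 63, nat_lit 5, nat_lit 1, nat_lit 5, nat_lit 1, nat_lit 5, nat_lit 1]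
def Wt_146_148 (j : ℕ) : List ℕ := bif Nat.blt j 147 then [nat_lit 0, nat_lit 6, nat_lit 0, nat_lit 2, nat_lit 3, nat_lit 6] else [nat_lit 7, nat_lit 3, nat_lit 2, nat_lit 4, nat_lit 7, nat_lit 0, nat_lit 2, nat_lit 3]
def Wt_145_148 (j : ℕ) : List ℕ := bif Nat.blt j 146 then [nat_lit 6, nat_lit 0, nat_lit 2, nat_lit 3, nat_lit 6, nat_lit 0] else (Wt_146_148 j)
def Wt_143_148 (j : ℕ) : List ℕ := bif Nat.blt j 145 then (Wt_143_145 j) else (Wt_145_148 j)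
def Wt_138_148 (j : ℕ) : List ℕ := bif Nat.blt j 143 then (Wt_138_143 j) else (Wt_143_148 j)
def Wt_129_148 (j : ℕ) : List ℕ := bif Nat.blt j 138 then (Wt_129_138 j) else (Wt_138_148 j)
def Wt_111_148 (j : ℕ) : List ℕ := bif Nat.blt j 129 then (Wt_111_129 j) else (Wt_129_148 j)
def Wt_74_148 (j : ℕ) : List ℕ := bif Nat.blt j 111 then (Wt_74_111 j) else (Wt_111_148 j)
def Wt_0_148 (j : ℕ) : List ℕ := bif Nat.blt j 74 then (Wt_0_74 j) else (Wt_74_148 j)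
def Wt_148_150 (j : ℕ) : List ℕ := bif Nat.blt j 149 then [nat_lit 7, nat_lit 0, nat_lit 2, nat_lit 3, nat_lit 7, nat_lit 3, nat_lit 2, nat_lit 4] else [nat_lit 63, nat_lit 0, nat_lit 7, nat_lit 0, nat_lit 7, nat_lit 0, nat_lit 7]
def Wt_150_152 (j : ℕ) : List ℕ := bif Nat.blt j 151 then [nat_lit 63, nat_lit 3, nat_lit 2, nat_lit 0, nat_lit 7, nat_lit 4, nat_lit 2, nat_lit 3, nat_lit 7] else [nat_lit 63, nat_lit 4, nat_lit 2, nat_lit 3, nat_lit 7, nat_lit 3, nat_lit 2, nat_lit 0, nat_lit 7]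
def Wt_148_152 (j : ℕ) : List ℕ := bif Nat.blt j 150 then (Wt_148_150 j) else (Wt_150_152 j)
def Wt_152_154 (j : ℕ) : List ℕ := bif Nat.blt j 153 then [nat_lit 63, nat_lit 1, nat_lit 0, nat_lit 3, nat_lit 2, nat_lit 1, nat_lit 3] else [nat_lit 0, nat_lit 2, nat_lit 0, nat_lit 5, nat_lit 0, nat_lit 2, nat_lit 0, nat_lit 5]
def Wt_155_157 (j : ℕ) : List ℕ := bif Nat.blt j 156 then [nat_lit 1, nat_lit 3, nat_lit 6, nat_lit 5, nat_lit 4, nat_lit 7, nat_lit 0, nat_lit 3, nat_lit 1, nat_lit 5, nat_lit 7] else [nat_lit 63, nat_lit 3, nat_lit 1, nat_lit 5, nat_lit 7, nat_lit 1, nat_lit 3, nat_lit 6, nat_lit 5, nat_lit 4, nat_lit 7, nat_lit 0]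
def Wt_154_157 (j : ℕ) : List ℕ := bif Nat.blt j 155 then [nat_lit 3, nat_lit 6, nat_lit 5, nat_lit 4, nat_lit 7, nat_lit 0, nat_lit 3, nat_lit 1, nat_lit 5, nat_lit 7, nat_lit 1] else (Wt_155_157 j)
def Wt_152_157 (j : ℕ) : List ℕ := bif Nat.blt j 154 then (Wt_152_154 j) else (Wt_154_157 j)
def Wt_148_157 (j : ℕ) : List ℕ := bif Nat.blt j 152 then (Wt_148_152 j) else (Wt_152_157 j)
def Wt_157_159 (j : ℕ) : List ℕ := bif Nat.blt j 158 then [nat_lit 63, nat_lit 0, nat_lit 4, nat_lit 1, nat_lit 4, nat_lit 1] else [nat_lit 63, nat_lit 1, nat_lit 4, nat_lit 1, nat_lit 4, nat_lit 0]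
def Wt_159_161 (j : ℕ) : List ℕ := bif Nat.blt j 160 then [nat_lit 2, nat_lit 3, nat_lit 7, nat_lit 3, nat_lit 2, nat_lit 4, nat_lit 7, nat_lit 0] else [nat_lit 63, nat_lit 5, nat_lit 4, nat_lit 5, nat_lit 3, nat_lit 4]
def Wt_157_161 (j : ℕ) : List ℕ := bif Nat.blt j 159 then (Wt_157_159 j) else (Wt_159_161 j)
def Wt_161_163 (j : ℕ) : List ℕ := bif Nat.blt j 162 then [nat_lit 63, nat_lit 2, nat_lit 1, nat_lit 2, nat_lit 1] else [nat_lit 6, nat_lit 0, nat_lit 1, nat_lit 3, nat_lit 5, nat_lit 6, nat_lit 4, nat_lit 6, nat_lit 5, nat_lit 1]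
def Wt_164_166 (j : ℕ) : List ℕ := bif Nat.blt j 165 then [nat_lit 63, nat_lit 5, nat_lit 3, nat_lit 1, nat_lit 0, nat_lit 6, nat_lit 1, nat_lit 5, nat_lit 6, nat_lit 4, nat_lit 6] else [nat_lit 5, nat_lit 6, nat_lit 4, nat_lit 6, nat_lit 5, nat_lit 1, nat_lit 6, nat_lit 0, nat_lit 1, nat_lit 3]
def Wt_163_166 (j : ℕ) : List ℕ := bif Nat.blt j 164 then [nat_lit 63, nat_lit 0, nat_lit 6, nat_lit 3, nat_lit 2, nat_lit 0, nat_lit 6] else (Wt_164_166 j)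
def Wt_161_166 (j : ℕ) : List ℕ := bif Nat.blt j 163 then (Wt_161_163 j) else (Wt_163_166 j)
def Wt_157_166 (j : ℕ) : List ℕ := bif Nat.blt j 161 then (Wt_157_161 j) else (Wt_161_166 j)
def Wt_148_166 (j : ℕ) : List ℕ := bif Nat.blt j 157 then (Wt_148_157 j) else (Wt_157_166 j)
def Wt_166_168 (j : ℕ) : List ℕ := bif Nat.blt j 167 then [nat_lit 63, nat_lit 1, nat_lit 5, nat_lit 6, nat_lit 4, nat_lit 6, nat_lit 5, nat_lit 3, nat_lit 1, nat_lit 0, nat_lit 6] else [nat_lit 63, nat_lit 5, nat_lit 1, nat_lit 6, nat_lit 0, nat_lit 1, nat_lit 3, nat_lit 5, nat_lit 6, nat_lit 4, nat_lit 6]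
def Wt_168_170 (j : ℕ) : List ℕ := bif Nat.blt j 169 then [nat_lit 6, nat_lit 4, nat_lit 6, nat_lit 5, nat_lit 1, nat_lit 6, nat_lit 0, nat_lit 1, nat_lit 3, nat_lit 5] else [nat_lit 63, nat_lit 4, nat_lit 6, nat_lit 5, nat_lit 3, nat_lit 1, nat_lit 0, nat_lit 6, nat_lit 1, nat_lit 5, nat_lit 6]
def Wt_166_170 (j : ℕ) : List ℕ := bif Nat.blt j 168 then (Wt_166_168 j) else (Wt_168_170 j)
def Wt_170_172 (j : ℕ) : List ℕ := bif Nat.blt j 171 then [nat_lit 63, nat_lit 1, nat_lit 6, nat_lit 1, nat_lit 6, nat_lit 1, nat_lit 6] else [nat_lit 4, nat_lit 6, nat_lit 5, nat_lit 1, nat_lit 6, nat_lit 0, nat_lit 1, nat_lit 3, nat_lit 5, nat_lit 6]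
def Wt_173_175 (j : ℕ) : List ℕ := bif Nat.blt j 174 then [nat_lit 63, nat_lit 1, nat_lit 0, nat_lit 1, nat_lit 0] else [nat_lit 63, nat_lit 3, nat_lit 4, nat_lit 5, nat_lit 4, nat_lit 5]
def Wt_172_175 (j : ℕ) : List ℕ := bif Nat.blt j 173 then [nat_lit 63, nat_lit 6, nat_lit 0, nat_lit 1, nat_lit 3, nat_lit 5, nat_lit 6, nat_lit 4, nat_lit 6, nat_lit 5, nat_lit 1] else (Wt_173_175 j)
def Wt_170_175 (j : ℕ) : List ℕ := bif Nat.blt j 172 then (Wt_170_172 j) else (Wt_172_175 j)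
def Wt_166_175 (j : ℕ) : List ℕ := bif Nat.blt j 170 then (Wt_166_170 j) else (Wt_170_175 j)
def Wt_175_177 (j : ℕ) : List ℕ := bif Nat.blt j 176 then [nat_lit 63, nat_lit 4, nat_lit 5, nat_lit 6, nat_lit 3, nat_lit 1, nat_lit 7, nat_lit 5, nat_lit 1, nat_lit 3, nat_lit 0, nat_lit 7] else [nat_lit 3, nat_lit 63, nat_lit 3, nat_lit 63]
def Wt_178_180 (j : ℕ) : List ℕ := bif Nat.blt j 179 then [nat_lit 5, nat_lit 3, nat_lit 1, nat_lit 0, nat_lit 6, nat_lit 1, nat_lit 5, nat_lit 6, nat_lit 4, nat_lit 6] else [nat_lit 63, nat_lit 2, nat_lit 3, nat_lit 6, nat_lit 0, nat_lit 6, nat_lit 0]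
def Wt_177_180 (j : ℕ) : List ℕ := bif Nat.blt j 178 then [nat_lit 5, nat_lit 6, nat_lit 4, nat_lit 6, nat_lit 5, nat_lit 3, nat_lit 1, nat_lit 0, nat_lit 6, nat_lit 1] else (Wt_178_180 j)
def Wt_175_180 (j : ℕ) : List ℕ := bif Nat.blt j 177 then (Wt_175_177 j) else (Wt_177_180 j)
def Wt_180_182 (j : ℕ) : List ℕ := bif Nat.blt j 181 then [nat_lit 7, nat_lit 1, nat_lit 3, nat_lit 6, nat_lit 5, nat_lit 4, nat_lit 7, nat_lit 0, nat_lit 3, nat_lit 1, nat_lit 5] else [nat_lit 0, nat_lit 1, nat_lit 3, nat_lit 5, nat_lit 6, nat_lit 4, nat_lit 6, nat_lit 5, nat_lit 1, nat_lit 6]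
def Wt_183_185 (j : ℕ) : List ℕ := bif Nat.blt j 184 then [nat_lit 63, nat_lit 6, nat_lit 0, nat_lit 6, nat_lit 3, nat_lit 2, nat_lit 0] else [nat_lit 4, nat_lit 7, nat_lit 0, nat_lit 3, nat_lit 1, nat_lit 5, nat_lit 7, nat_lit 1, nat_lit 3, nat_lit 6, nat_lit 5]
def Wt_182_185 (j : ℕ) : List ℕ := bif Nat.blt j 183 then [nat_lit 6, nat_lit 5, nat_lit 1, nat_lit 6, nat_lit 0, nat_lit 1, nat_lit 3, nat_lit 5, nat_lit 6, nat_lit 4] else (Wt_183_185 j)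
def Wt_180_185 (j : ℕ) : List ℕ := bif Nat.blt j 182 then (Wt_180_182 j) else (Wt_182_185 j)
def Wt_175_185 (j : ℕ) : List ℕ := bif Nat.blt j 180 then (Wt_175_180 j) else (Wt_180_185 j)
def Wt_166_185 (j : ℕ) : List ℕ := bif Nat.blt j 175 then (Wt_166_175 j) else (Wt_175_185 j)
def Wt_148_185 (j : ℕ) : List ℕ := bif Nat.blt j 166 then (Wt_148_166 j) else (Wt_166_185 j)
def Wt_185_187 (j : ℕ) : List ℕ := bif Nat.blt j 186 then [nat_lit 63, nat_lit 2, nat_lit 0, nat_lit 6, nat_lit 0, nat_lit 6, nat_lit 3] else [nat_lit 0, nat_lit 2, nat_lit 0, nat_lit 2, nat_lit 0, nat_lit 2, nat_lit 0, nat_lit 2, nat_lit 0, nat_lit 2, nat_lit 0, nat_lit 2, nat_lit 0, nat_lit 2]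
def Wt_187_189 (j : ℕ) : List ℕ := bif Nat.blt j 188 then [nat_lit 63, nat_lit 3, nat_lit 4, nat_lit 3, nat_lit 4] else [nat_lit 5, nat_lit 4, nat_lit 5, nat_lit 3, nat_lit 4]
def Wt_185_189 (j : ℕ) : List ℕ := bif Nat.blt j 187 then (Wt_185_187 j) else (Wt_187_189 j)
def Wt_189_191 (j : ℕ) : List ℕ := bif Nat.blt j 190 then [nat_lit 63, nat_lit 4, nat_lit 3, nat_lit 4, nat_lit 3] else [nat_lit 63, nat_lit 5, nat_lit 4, nat_lit 3, nat_lit 5, nat_lit 4]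
def Wt_192_194 (j : ℕ) : List ℕ := bif Nat.blt j 193 then [nat_lit 63, nat_lit 2, nat_lit 1, nat_lit 3, nat_lit 1, nat_lit 0, nat_lit 3] else [nat_lit 63, nat_lit 0, nat_lit 6, nat_lit 0, nat_lit 6, nat_lit 3, nat_lit 2]
def Wt_191_194 (j : ℕ) : List ℕ := bif Nat.blt j 192 then [nat_lit 5, nat_lit 6, nat_lit 3, nat_lit 1, nat_lit 7, nat_lit 5, nat_lit 1, nat_lit 3, nat_lit 0, nat_lit 7, nat_lit 4] else (Wt_192_194 j)
def Wt_189_194 (j : ℕ) : List ℕ := bif Nat.blt j 191 then (Wt_189_191 j) else (Wt_191_194 j)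
def Wt_185_194 (j : ℕ) : List ℕ := bif Nat.blt j 189 then (Wt_185_189 j) else (Wt_189_194 j)
def Wt_194_196 (j : ℕ) : List ℕ := bif Nat.blt j 195 then [nat_lit 63, nat_lit 6, nat_lit 0, nat_lit 6, nat_lit 0, nat_lit 2, nat_lit 3] else [nat_lit 4, nat_lit 5, nat_lit 4, nat_lit 5, nat_lit 3]
def Wt_196_198 (j : ℕ) : List ℕ := bif Nat.blt j 197 then [nat_lit 2, nat_lit 0, nat_lit 2, nat_lit 0, nat_lit 2, nat_lit 0, nat_lit 2, nat_lit 0, nat_lit 2, nat_lit 0, nat_lit 2, nat_lit 0, nat_lit 2, nat_lit 0] else [nat_lit 3, nat_lit 1, nat_lit 0, nat_lit 6, nat_lit 1, nat_lit 5, nat_lit 6, nat_lit 4, nat_lit 6, nat_lit 5]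
def Wt_194_198 (j : ℕ) : List ℕ := bif Nat.blt j 196 then (Wt_194_196 j) else (Wt_196_198 j)
def Wt_198_200 (j : ℕ) : List ℕ := bif Nat.blt j 199 then [nat_lit 63, nat_lit 6, nat_lit 3, nat_lit 1, nat_lit 7, nat_lit 5, nat_lit 1, nat_lit 3, nat_lit 0, nat_lit 7, nat_lit 4, nat_lit 5] else [nat_lit 6, nat_lit 63, nat_lit 6, nat_lit 63]
def Wt_201_203 (j : ℕ) : List ℕ := bif Nat.blt j 202 then [nat_lit 7, nat_lit 5, nat_lit 7, nat_lit 5, nat_lit 7, nat_lit 5, nat_lit 7, nat_lit 5, nat_lit 7, nat_lit 5, nat_lit 7, nat_lit 5] else [nat_lit 1, nat_lit 3, nat_lit 5, nat_lit 6, nat_lit 4, nat_lit 6, nat_lit 5, nat_lit 1, nat_lit 6, nat_lit 0]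
def Wt_200_203 (j : ℕ) : List ℕ := bif Nat.blt j 201 then [nat_lit 63, nat_lit 7, nat_lit 5, nat_lit 1, nat_lit 3, nat_lit 0, nat_lit 7, nat_lit 4, nat_lit 5, nat_lit 6, nat_lit 3, nat_lit 1] else (Wt_201_203 j)
def Wt_198_203 (j : ℕ) : List ℕ := bif Nat.blt j 200 then (Wt_198_200 j) else (Wt_200_203 j)
def Wt_194_203 (j : ℕ) : List ℕ := bif Nat.blt j 198 then (Wt_194_198 j) else (Wt_198_203 j)
def Wt_185_203 (j : ℕ) : List ℕ := bif Nat.blt j 194 then (Wt_185_194 j) else (Wt_194_203 j)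
def Wt_203_205 (j : ℕ) : List ℕ := bif Nat.blt j 204 then [nat_lit 3, nat_lit 2, nat_lit 0, nat_lit 7, nat_lit 4, nat_lit 2, nat_lit 3, nat_lit 7] else [nat_lit 63, nat_lit 5, nat_lit 0, nat_lit 2, nat_lit 0, nat_lit 5, nat_lit 0, nat_lit 2, nat_lit 0]
def Wt_205_207 (j : ℕ) : List ℕ := bif Nat.blt j 206 then [nat_lit 63, nat_lit 0, nat_lit 2, nat_lit 0, nat_lit 2, nat_lit 0, nat_lit 2, nat_lit 0, nat_lit 2, nat_lit 0, nat_lit 2, nat_lit 0, nat_lit 2, nat_lit 0, nat_lit 2] else [nat_lit 63, nat_lit 3, nat_lit 1, nat_lit 0, nat_lit 3, nat_lit 2, nat_lit 1]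
def Wt_203_207 (j : ℕ) : List ℕ := bif Nat.blt j 205 then (Wt_203_205 j) else (Wt_205_207 j)
def Wt_207_209 (j : ℕ) : List ℕ := bif Nat.blt j 208 then [nat_lit 63, nat_lit 1, nat_lit 2, nat_lit 1, nat_lit 2] else [nat_lit 63, nat_lit 0, nat_lit 1, nat_lit 3, nat_lit 1, nat_lit 2, nat_lit 3]
def Wt_210_212 (j : ℕ) : List ℕ := bif Nat.blt j 211 then [nat_lit 63, nat_lit 3, nat_lit 7, nat_lit 3, nat_lit 2, nat_lit 0, nat_lit 7, nat_lit 4, nat_lit 2] else [nat_lit 1, nat_lit 7, nat_lit 5, nat_lit 1, nat_lit 3, nat_lit 0, nat_lit 7, nat_lit 4, nat_lit 5, nat_lit 6, nat_lit 3]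
def Wt_209_212 (j : ℕ) : List ℕ := bif Nat.blt j 210 then [nat_lit 1, nat_lit 6, nat_lit 0, nat_lit 1, nat_lit 3, nat_lit 5, nat_lit 6, nat_lit 4, nat_lit 6, nat_lit 5] else (Wt_210_212 j)
def Wt_207_212 (j : ℕ) : List ℕ := bif Nat.blt j 209 then (Wt_207_209 j) else (Wt_209_212 j)
def Wt_203_212 (j : ℕ) : List ℕ := bif Nat.blt j 207 then (Wt_203_207 j) else (Wt_207_212 j)
def Wt_212_214 (j : ℕ) : List ℕ := bif Nat.blt j 213 then [nat_lit 3, nat_lit 5, nat_lit 6, nat_lit 4, nat_lit 6, nat_lit 5, nat_lit 1, nat_lit 6, nat_lit 0, nat_lit 1] else [nat_lit 4, nat_lit 63, nat_lit 4, nat_lit 63]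
def Wt_215_217 (j : ℕ) : List ℕ := bif Nat.blt j 216 then [nat_lit 63, nat_lit 1, nat_lit 6, nat_lit 0, nat_lit 1, nat_lit 3, nat_lit 5, nat_lit 6, nat_lit 4, nat_lit 6, nat_lit 5] else [nat_lit 63, nat_lit 5, nat_lit 4, nat_lit 5, nat_lit 4, nat_lit 3]
def Wt_214_217 (j : ℕ) : List ℕ := bif Nat.blt j 215 then [nat_lit 63, nat_lit 6, nat_lit 3, nat_lit 2, nat_lit 0, nat_lit 6, nat_lit 0] else (Wt_215_217 j)
def Wt_212_217 (j : ℕ) : List ℕ := bif Nat.blt j 214 then (Wt_212_214 j) else (Wt_214_217 j)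
def Wt_217_219 (j : ℕ) : List ℕ := bif Nat.blt j 218 then [nat_lit 63, nat_lit 0, nat_lit 2, nat_lit 3, nat_lit 6, nat_lit 0, nat_lit 6] else [nat_lit 63, nat_lit 3, nat_lit 1, nat_lit 0, nat_lit 6, nat_lit 1, nat_lit 5, nat_lit 6, nat_lit 4, nat_lit 6, nat_lit 5]
def Wt_220_222 (j : ℕ) : List ℕ := bif Nat.blt j 221 then [nat_lit 63, nat_lit 7, nat_lit 3, nat_lit 2, nat_lit 0, nat_lit 7, nat_lit 4, nat_lit 2, nat_lit 3] else [nat_lit 1, nat_lit 0, nat_lit 6, nat_lit 1, nat_lit 5, nat_lit 6, nat_lit 4, nat_lit 6, nat_lit 5, nat_lit 3]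
def Wt_219_222 (j : ℕ) : List ℕ := bif Nat.blt j 220 then [nat_lit 3, nat_lit 2, nat_lit 4, nat_lit 7, nat_lit 0, nat_lit 2, nat_lit 3, nat_lit 7] else (Wt_220_222 j)
def Wt_217_222 (j : ℕ) : List ℕ := bif Nat.blt j 219 then (Wt_217_219 j) else (Wt_219_222 j)
def Wt_212_222 (j : ℕ) : List ℕ := bif Nat.blt j 217 then (Wt_212_217 j) else (Wt_217_222 j)
def Wt_203_222 (j : ℕ) : List ℕ := bif Nat.blt j 212 then (Wt_203_212 j) else (Wt_212_222 j)
def Wt_185_222 (j : ℕ) : List ℕ := bif Nat.blt j 203 then (Wt_185_203 j) else (Wt_203_222 j)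
def Wt_148_222 (j : ℕ) : List ℕ := bif Nat.blt j 185 then (Wt_148_185 j) else (Wt_185_222 j)
def Wt_222_224 (j : ℕ) : List ℕ := bif Nat.blt j 223 then [nat_lit 63, nat_lit 1, nat_lit 0, nat_lit 6, nat_lit 1, nat_lit 5, nat_lit 6, nat_lit 4, nat_lit 6, nat_lit 5, nat_lit 3] else [nat_lit 63, nat_lit 2, nat_lit 3, nat_lit 7, nat_lit 3, nat_lit 2, nat_lit 4, nat_lit 7, nat_lit 0]
def Wt_224_226 (j : ℕ) : List ℕ := bif Nat.blt j 225 then [nat_lit 3, nat_lit 7, nat_lit 3, nat_lit 2, nat_lit 4, nat_lit 7, nat_lit 0, nat_lit 2] else [nat_lit 3, nat_lit 0, nat_lit 7, nat_lit 4, nat_lit 5, nat_lit 6, nat_lit 3, nat_lit 1, nat_lit 7, nat_lit 5, nat_lit 1]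
def Wt_222_226 (j : ℕ) : List ℕ := bif Nat.blt j 224 then (Wt_222_224 j) else (Wt_224_226 j)
def Wt_226_228 (j : ℕ) : List ℕ := bif Nat.blt j 227 then [nat_lit 63, nat_lit 4, nat_lit 1, nat_lit 0, nat_lit 4, nat_lit 1] else [nat_lit 63, nat_lit 6, nat_lit 4, nat_lit 6, nat_lit 5, nat_lit 3, nat_lit 1, nat_lit 0, nat_lit 6, nat_lit 1, nat_lit 5]
def Wt_229_231 (j : ℕ) : List ℕ := bif Nat.blt j 230 then [nat_lit 63, nat_lit 6, nat_lit 5, nat_lit 3, nat_lit 1, nat_lit 0, nat_lit 6, nat_lit 1, nat_lit 5, nat_lit 6, nat_lit 4] else [nat_lit 5, nat_lit 63, nat_lit 5, nat_lit 63]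
def Wt_228_231 (j : ℕ) : List ℕ := bif Nat.blt j 229 then [nat_lit 63, nat_lit 5, nat_lit 6, nat_lit 4, nat_lit 6, nat_lit 5, nat_lit 3, nat_lit 1, nat_lit 0, nat_lit 6, nat_lit 1] else (Wt_229_231 j)
def Wt_226_231 (j : ℕ) : List ℕ := bif Nat.blt j 228 then (Wt_226_228 j) else (Wt_228_231 j)
def Wt_222_231 (j : ℕ) : List ℕ := bif Nat.blt j 226 then (Wt_222_226 j) else (Wt_226_231 j)
def Wt_231_233 (j : ℕ) : List ℕ := bif Nat.blt j 232 then [nat_lit 63, nat_lit 2, nat_lit 0, nat_lit 2, nat_lit 0, nat_lit 2, nat_lit 0, nat_lit 2, nat_lit 0, nat_lit 2, nat_lit 0, nat_lit 2, nat_lit 0, nat_lit 2, nat_lit 0] else [nat_lit 63, nat_lit 4, nat_lit 0, nat_lit 1, nat_lit 4, nat_lit 1]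
def Wt_233_235 (j : ℕ) : List ℕ := bif Nat.blt j 234 then [nat_lit 63, nat_lit 4, nat_lit 6, nat_lit 5, nat_lit 1, nat_lit 6, nat_lit 0, nat_lit 1, nat_lit 3, nat_lit 5, nat_lit 6] else [nat_lit 63, nat_lit 0, nat_lit 1, nat_lit 3, nat_lit 5, nat_lit 6, nat_lit 4, nat_lit 6, nat_lit 5, nat_lit 1, nat_lit 6]
def Wt_231_235 (j : ℕ) : List ℕ := bif Nat.blt j 233 then (Wt_231_233 j) else (Wt_233_235 j)
def Wt_235_237 (j : ℕ) : List ℕ := bif Nat.blt j 236 then [nat_lit 63, nat_lit 6, nat_lit 1, nat_lit 5, nat_lit 6, nat_lit 4, nat_lit 6, nat_lit 5, nat_lit 3, nat_lit 1, nat_lit 0] else [nat_lit 63, nat_lit 3, nat_lit 1, nat_lit 7, nat_lit 5, nat_lit 1, nat_lit 3, nat_lit 0, nat_lit 7, nat_lit 4, nat_lit 5, nat_lit 6]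
def Wt_238_240 (j : ℕ) : List ℕ := bif Nat.blt j 239 then [nat_lit 63, nat_lit 1, nat_lit 7, nat_lit 5, nat_lit 1, nat_lit 3, nat_lit 0, nat_lit 7, nat_lit 4, nat_lit 5, nat_lit 6, nat_lit 3] else [nat_lit 63, nat_lit 7, nat_lit 0, nat_lit 2, nat_lit 3, nat_lit 7, nat_lit 3, nat_lit 2, nat_lit 4]
def Wt_237_240 (j : ℕ) : List ℕ := bif Nat.blt j 238 then [nat_lit 7, nat_lit 0, nat_lit 3, nat_lit 1, nat_lit 5, nat_lit 7, nat_lit 1, nat_lit 3, nat_lit 6, nat_lit 5, nat_lit 4] else (Wt_238_240 j)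
def Wt_235_240 (j : ℕ) : List ℕ := bif Nat.blt j 237 then (Wt_235_237 j) else (Wt_237_240 j)
def Wt_231_240 (j : ℕ) : List ℕ := bif Nat.blt j 235 then (Wt_231_235 j) else (Wt_235_240 j)
def Wt_222_240 (j : ℕ) : List ℕ := bif Nat.blt j 231 then (Wt_222_231 j) else (Wt_231_240 j)
def Wt_240_242 (j : ℕ) : List ℕ := bif Nat.blt j 241 then [nat_lit 63, nat_lit 1, nat_lit 3, nat_lit 0, nat_lit 7, nat_lit 4, nat_lit 5, nat_lit 6, nat_lit 3, nat_lit 1, nat_lit 7, nat_lit 5] else [nat_lit 63, nat_lit 7, nat_lit 0, nat_lit 7, nat_lit 0, nat_lit 7, nat_lit 0]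
def Wt_242_244 (j : ℕ) : List ℕ := bif Nat.blt j 243 then [nat_lit 63, nat_lit 2, nat_lit 3, nat_lit 7, nat_lit 3, nat_lit 2, nat_lit 0, nat_lit 7, nat_lit 4] else [nat_lit 63, nat_lit 3, nat_lit 2, nat_lit 4, nat_lit 7, nat_lit 0, nat_lit 2, nat_lit 3, nat_lit 7]
def Wt_240_244 (j : ℕ) : List ℕ := bif Nat.blt j 242 then (Wt_240_242 j) else (Wt_242_244 j)
def Wt_244_246 (j : ℕ) : List ℕ := bif Nat.blt j 245 then [nat_lit 63, nat_lit 5, nat_lit 4, nat_lit 7, nat_lit 0, nat_lit 3, nat_lit 1, nat_lit 5, nat_lit 7, nat_lit 1, nat_lit 3, nat_lit 6] else [nat_lit 63, nat_lit 0, nat_lit 7, nat_lit 4, nat_lit 2, nat_lit 3, nat_lit 7, nat_lit 3, nat_lit 2]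
def Wt_247_249 (j : ℕ) : List ℕ := bif Nat.blt j 248 then [nat_lit 63, nat_lit 1, nat_lit 3, nat_lit 6, nat_lit 5, nat_lit 4, nat_lit 7, nat_lit 0, nat_lit 3, nat_lit 1, nat_lit 5, nat_lit 7] else [nat_lit 63, nat_lit 4, nat_lit 5, nat_lit 3, nat_lit 4, nat_lit 5]
def Wt_246_249 (j : ℕ) : List ℕ := bif Nat.blt j 247 then [nat_lit 63, nat_lit 7, nat_lit 63, nat_lit 7, nat_lit 63] else (Wt_247_249 j)
def Wt_244_249 (j : ℕ) : List ℕ := bif Nat.blt j 246 then (Wt_244_246 j) else (Wt_246_249 j)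
def Wt_240_249 (j : ℕ) : List ℕ := bif Nat.blt j 244 then (Wt_240_244 j) else (Wt_244_249 j)
def Wt_249_251 (j : ℕ) : List ℕ := bif Nat.blt j 250 then [nat_lit 63, nat_lit 0, nat_lit 3, nat_lit 0, nat_lit 3, nat_lit 0, nat_lit 3, nat_lit 0, nat_lit 3, nat_lit 0, nat_lit 3, nat_lit 0, nat_lit 3, nat_lit 0, nat_lit 3] else [nat_lit 63, nat_lit 7, nat_lit 1, nat_lit 3, nat_lit 6, nat_lit 5, nat_lit 4, nat_lit 7, nat_lit 0, nat_lit 3, nat_lit 1, nat_lit 5]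
def Wt_252_254 (j : ℕ) : List ℕ := bif Nat.blt j 253 then [nat_lit 63, nat_lit 5, nat_lit 6, nat_lit 3, nat_lit 1, nat_lit 7, nat_lit 5, nat_lit 1, nat_lit 3, nat_lit 0, nat_lit 7, nat_lit 4] else [nat_lit 63, nat_lit 2, nat_lit 4, nat_lit 7, nat_lit 0, nat_lit 2, nat_lit 3, nat_lit 7, nat_lit 3]
def Wt_251_254 (j : ℕ) : List ℕ := bif Nat.blt j 252 then [nat_lit 63, nat_lit 4, nat_lit 3, nat_lit 5, nat_lit 4, nat_lit 5] else (Wt_252_254 j)
def Wt_249_254 (j : ℕ) : List ℕ := bif Nat.blt j 251 then (Wt_249_251 j) else (Wt_251_254 j)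
def Wt_254_256 (j : ℕ) : List ℕ := bif Nat.blt j 255 then [nat_lit 63, nat_lit 3, nat_lit 6, nat_lit 5, nat_lit 4, nat_lit 7, nat_lit 0, nat_lit 3, nat_lit 1, nat_lit 5, nat_lit 7, nat_lit 1] else [nat_lit 0, nat_lit 63, nat_lit 0, nat_lit 63]
def Wt_257_259 (j : ℕ) : List ℕ := bif Nat.blt j 258 then [nat_lit 63, nat_lit 3, nat_lit 5, nat_lit 6, nat_lit 4, nat_lit 6, nat_lit 5, nat_lit 1, nat_lit 6, nat_lit 0, nat_lit 1] else [nat_lit 63, nat_lit 7, nat_lit 0, nat_lit 3, nat_lit 1, nat_lit 5, nat_lit 7, nat_lit 1, nat_lit 3, nat_lit 6, nat_lit 5, nat_lit 4]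
def Wt_256_259 (j : ℕ) : List ℕ := bif Nat.blt j 257 then [nat_lit 63, nat_lit 7, nat_lit 4, nat_lit 5, nat_lit 6, nat_lit 3, nat_lit 1, nat_lit 7, nat_lit 5, nat_lit 1, nat_lit 3, nat_lit 0] else (Wt_257_259 j)
def Wt_254_259 (j : ℕ) : List ℕ := bif Nat.blt j 256 then (Wt_254_256 j) else (Wt_256_259 j)
def Wt_249_259 (j : ℕ) : List ℕ := bif Nat.blt j 254 then (Wt_249_254 j) else (Wt_254_259 j)
def Wt_240_259 (j : ℕ) : List ℕ := bif Nat.blt j 249 then (Wt_240_249 j) else (Wt_249_259 j)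
def Wt_222_259 (j : ℕ) : List ℕ := bif Nat.blt j 240 then (Wt_222_240 j) else (Wt_240_259 j)
def Wt_259_261 (j : ℕ) : List ℕ := bif Nat.blt j 260 then [nat_lit 63, nat_lit 6, nat_lit 4, nat_lit 6, nat_lit 5, nat_lit 1, nat_lit 6, nat_lit 0, nat_lit 1, nat_lit 3, nat_lit 5] else [nat_lit 63, nat_lit 7, nat_lit 3, nat_lit 2, nat_lit 4, nat_lit 7, nat_lit 0, nat_lit 2, nat_lit 3]
def Wt_261_263 (j : ℕ) : List ℕ := bif Nat.blt j 262 then [nat_lit 63, nat_lit 5, nat_lit 3, nat_lit 4, nat_lit 5, nat_lit 4] else [nat_lit 63, nat_lit 6, nat_lit 5, nat_lit 4, nat_lit 7, nat_lit 0, nat_lit 3, nat_lit 1, nat_lit 5, nat_lit 7, nat_lit 1, nat_lit 3]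
def Wt_259_263 (j : ℕ) : List ℕ := bif Nat.blt j 261 then (Wt_259_261 j) else (Wt_261_263 j)
def Wt_263_265 (j : ℕ) : List ℕ := bif Nat.blt j 264 then [nat_lit 63, nat_lit 4, nat_lit 1, nat_lit 4, nat_lit 0, nat_lit 1] else [nat_lit 63, nat_lit 4, nat_lit 7, nat_lit 0, nat_lit 3, nat_lit 1, nat_lit 5, nat_lit 7, nat_lit 1, nat_lit 3, nat_lit 6, nat_lit 5]
def Wt_266_268 (j : ℕ) : List ℕ := bif Nat.blt j 267 then [nat_lit 63, nat_lit 0, nat_lit 7, nat_lit 4, nat_lit 5, nat_lit 6, nat_lit 3, nat_lit 1, nat_lit 7, nat_lit 5, nat_lit 1, nat_lit 3] else [nat_lit 63, nat_lit 1, nat_lit 4, nat_lit 0, nat_lit 1, nat_lit 4]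
def Wt_265_268 (j : ℕ) : List ℕ := bif Nat.blt j 266 then [nat_lit 63, nat_lit 0, nat_lit 1, nat_lit 0, nat_lit 1] else (Wt_266_268 j)
def Wt_263_268 (j : ℕ) : List ℕ := bif Nat.blt j 265 then (Wt_263_265 j) else (Wt_265_268 j)
def Wt_259_268 (j : ℕ) : List ℕ := bif Nat.blt j 263 then (Wt_259_263 j) else (Wt_263_268 j)
def Wt_268_270 (j : ℕ) : List ℕ := bif Nat.blt j 269 then [nat_lit 63, nat_lit 6, nat_lit 5, nat_lit 1, nat_lit 6, nat_lit 0, nat_lit 1, nat_lit 3, nat_lit 5, nat_lit 6, nat_lit 4] else [nat_lit 63, nat_lit 3, nat_lit 0, nat_lit 7, nat_lit 4, nat_lit 5, nat_lit 6, nat_lit 3, nat_lit 1, nat_lit 7, nat_lit 5, nat_lit 1]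
def Wt_270_272 (j : ℕ) : List ℕ := bif Nat.blt j 271 then [nat_lit 63, nat_lit 0, nat_lit 3, nat_lit 2, nat_lit 1, nat_lit 3, nat_lit 1] else [nat_lit 63, nat_lit 2, nat_lit 0, nat_lit 7, nat_lit 4, nat_lit 2, nat_lit 3, nat_lit 7, nat_lit 3]
def Wt_268_272 (j : ℕ) : List ℕ := bif Nat.blt j 270 then (Wt_268_270 j) else (Wt_270_272 j)
def Wt_272_274 (j : ℕ) : List ℕ := bif Nat.blt j 273 then [nat_lit 63, nat_lit 1, nat_lit 3, nat_lit 5, nat_lit 6, nat_lit 4, nat_lit 6, nat_lit 5, nat_lit 1, nat_lit 6, nat_lit 0] else [nat_lit 63, nat_lit 3, nat_lit 7, nat_lit 3, nat_lit 2, nat_lit 4, nat_lit 7, nat_lit 0, nat_lit 2]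
def Wt_275_277 (j : ℕ) : List ℕ := bif Nat.blt j 276 then [nat_lit 63, nat_lit 63, nat_lit 4, nat_lit 63, nat_lit 4] else [nat_lit 63, nat_lit 63, nat_lit 2, nat_lit 63, nat_lit 2]
def Wt_274_277 (j : ℕ) : List ℕ := bif Nat.blt j 275 then [nat_lit 63, nat_lit 0, nat_lit 63, nat_lit 0, nat_lit 63] else (Wt_275_277 j)
def Wt_272_277 (j : ℕ) : List ℕ := bif Nat.blt j 274 then (Wt_272_274 j) else (Wt_274_277 j)
def Wt_268_277 (j : ℕ) : List ℕ := bif Nat.blt j 272 then (Wt_268_272 j) else (Wt_272_277 j)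
def Wt_259_277 (j : ℕ) : List ℕ := bif Nat.blt j 268 then (Wt_259_268 j) else (Wt_268_277 j)
def Wt_277_279 (j : ℕ) : List ℕ := bif Nat.blt j 278 then [nat_lit 63, nat_lit 63, nat_lit 5, nat_lit 63, nat_lit 5] else [nat_lit 63, nat_lit 63, nat_lit 0, nat_lit 63, nat_lit 0]
def Wt_279_281 (j : ℕ) : List ℕ := bif Nat.blt j 280 then [nat_lit 63, nat_lit 2, nat_lit 63, nat_lit 2, nat_lit 63] else [nat_lit 63, nat_lit 6, nat_lit 63, nat_lit 6, nat_lit 63]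
def Wt_277_281 (j : ℕ) : List ℕ := bif Nat.blt j 279 then (Wt_277_279 j) else (Wt_279_281 j)
def Wt_281_283 (j : ℕ) : List ℕ := bif Nat.blt j 282 then [nat_lit 63, nat_lit 63, nat_lit 6, nat_lit 63, nat_lit 6] else [nat_lit 63, nat_lit 63, nat_lit 1, nat_lit 63, nat_lit 1]
def Wt_284_286 (j : ℕ) : List ℕ := bif Nat.blt j 285 then [nat_lit 63, nat_lit 63, nat_lit 7, nat_lit 63, nat_lit 7] else [nat_lit 63, nat_lit 4, nat_lit 63, nat_lit 4, nat_lit 63]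
def Wt_283_286 (j : ℕ) : List ℕ := bif Nat.blt j 284 then [nat_lit 63, nat_lit 63, nat_lit 0, nat_lit 63, nat_lit 0, nat_lit 63] else (Wt_284_286 j)
def Wt_281_286 (j : ℕ) : List ℕ := bif Nat.blt j 283 then (Wt_281_283 j) else (Wt_283_286 j)
def Wt_277_286 (j : ℕ) : List ℕ := bif Nat.blt j 281 then (Wt_277_281 j) else (Wt_281_286 j)
def Wt_286_288 (j : ℕ) : List ℕ := bif Nat.blt j 287 then [nat_lit 63, nat_lit 63, nat_lit 7, nat_lit 63, nat_lit 7, nat_lit 63] else [nat_lit 63, nat_lit 63, nat_lit 5, nat_lit 63, nat_lit 5, nat_lit 63]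
def Wt_289_291 (j : ℕ) : List ℕ := bif Nat.blt j 290 then [nat_lit 63, nat_lit 63, nat_lit 6, nat_lit 63, nat_lit 6, nat_lit 63] else [nat_lit 63, nat_lit 63, nat_lit 2, nat_lit 63, nat_lit 2, nat_lit 63]
def Wt_288_291 (j : ℕ) : List ℕ := bif Nat.blt j 289 then [nat_lit 63, nat_lit 63, nat_lit 3, nat_lit 63, nat_lit 3, nat_lit 63] else (Wt_289_291 j)
def Wt_286_291 (j : ℕ) : List ℕ := bif Nat.blt j 288 then (Wt_286_288 j) else (Wt_288_291 j)
def Wt_291_293 (j : ℕ) : List ℕ := bif Nat.blt j 292 then [nat_lit 63, nat_lit 63, nat_lit 4, nat_lit 63, nat_lit 4, nat_lit 63] else [nat_lit 63, nat_lit 63, nat_lit 63, nat_lit 63, nat_lit 63]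
def Wt_294_296 (j : ℕ) : List ℕ := bif Nat.blt j 295 then [nat_lit 63, nat_lit 63, nat_lit 1, nat_lit 63, nat_lit 1, nat_lit 63] else [nat_lit 63, nat_lit 63, nat_lit 63, nat_lit 63, nat_lit 63, nat_lit 63]
def Wt_293_296 (j : ℕ) : List ℕ := bif Nat.blt j 294 then [nat_lit 63, nat_lit 63, nat_lit 63, nat_lit 63] else (Wt_294_296 j)
def Wt_291_296 (j : ℕ) : List ℕ := bif Nat.blt j 293 then (Wt_291_293 j) else (Wt_293_296 j)
def Wt_286_296 (j : ℕ) : List ℕ := bif Nat.blt j 291 then (Wt_286_291 j) else (Wt_291_296 j)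
def Wt_277_296 (j : ℕ) : List ℕ := bif Nat.blt j 286 then (Wt_277_286 j) else (Wt_286_296 j)
def Wt_259_296 (j : ℕ) : List ℕ := bif Nat.blt j 277 then (Wt_259_277 j) else (Wt_277_296 j)
def Wt_222_296 (j : ℕ) : List ℕ := bif Nat.blt j 259 then (Wt_222_259 j) else (Wt_259_296 j)
def Wt_148_296 (j : ℕ) : List ℕ := bif Nat.blt j 222 then (Wt_148_222 j) else (Wt_222_296 j)
def Wt_0_296 (j : ℕ) : List ℕ := bif Nat.blt j 148 then (Wt_0_148 j) else (Wt_148_296 j)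
def Wt (j : ℕ) : List ℕ := (Wt_0_296 j)
def W (j : ℕ) : List ℕ := bif Nat.blt j 296 then Wt j else []
theorem W_ge (j : ℕ) (h : 296 ≤ j) : W j = [] := by
  unfold W
  rw [blt_false_of_le h]
  rfl
def Hl : List ℕ := [nat_lit 0, nat_lit 1, nat_lit 2, nat_lit 3, nat_lit 4, nat_lit 5, nat_lit 6]
def isH (y : ℕ) : Bool := List.elem y Hl
def Rb : List (List ℕ) := [[nat_lit 0, nat_lit 0],
  [nat_lit 1, nat_lit 1],
  [nat_lit 1, nat_lit 0, nat_lit 1, nat_lit 0],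
  [nat_lit 2, nat_lit 2],
  [nat_lit 2, nat_lit 0, nat_lit 2, nat_lit 0, nat_lit 2, nat_lit 0, nat_lit 2, nat_lit 0, nat_lit 2, nat_lit 0, nat_lit 2, nat_lit 0, nat_lit 2, nat_lit 0],
  [nat_lit 2, nat_lit 1, nat_lit 2, nat_lit 1],
  [nat_lit 3, nat_lit 3],
  [nat_lit 3, nat_lit 0, nat_lit 3, nat_lit 0, nat_lit 3, nat_lit 0, nat_lit 3, nat_lit 0, nat_lit 3, nat_lit 0, nat_lit 3, nat_lit 0, nat_lit 3, nat_lit 0],
  [nat_lit 0, nat_lit 3, nat_lit 2, nat_lit 1, nat_lit 3, nat_lit 1],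
  [nat_lit 4, nat_lit 4],
  [nat_lit 4, nat_lit 3, nat_lit 4, nat_lit 3],
  [nat_lit 4, nat_lit 1, nat_lit 4, nat_lit 1, nat_lit 0],
  [nat_lit 5, nat_lit 5],
  [nat_lit 5, nat_lit 1, nat_lit 5, nat_lit 1, nat_lit 5, nat_lit 1],
  [nat_lit 5, nat_lit 4, nat_lit 5, nat_lit 4, nat_lit 3],
  [nat_lit 0, nat_lit 5, nat_lit 0, nat_lit 2, nat_lit 0, nat_lit 5, nat_lit 0, nat_lit 2],
  [nat_lit 6, nat_lit 6],
  [nat_lit 6, nat_lit 1, nat_lit 6, nat_lit 1, nat_lit 6, nat_lit 1],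
  [nat_lit 0, nat_lit 6, nat_lit 0, nat_lit 6, nat_lit 3, nat_lit 2],
  [nat_lit 0, nat_lit 6, nat_lit 1, nat_lit 5, nat_lit 6, nat_lit 4, nat_lit 6, nat_lit 5, nat_lit 3, nat_lit 1],
  [nat_lit 7, nat_lit 7],
  [nat_lit 7, nat_lit 0, nat_lit 7, nat_lit 0, nat_lit 7, nat_lit 0],
  [nat_lit 7, nat_lit 5, nat_lit 7, nat_lit 5, nat_lit 7, nat_lit 5, nat_lit 7, nat_lit 5, nat_lit 7, nat_lit 5, nat_lit 7, nat_lit 5],
  [nat_lit 0, nat_lit 7, nat_lit 4, nat_lit 2, nat_lit 3, nat_lit 7, nat_lit 3, nat_lit 2],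
  [nat_lit 7, nat_lit 4, nat_lit 5, nat_lit 6, nat_lit 3, nat_lit 1, nat_lit 7, nat_lit 5, nat_lit 1, nat_lit 3, nat_lit 0],
  []]
def spT_0_2 (j : ℕ) : ℕ := bif Nat.blt j 1 then nat_lit 0x201a000000250000a0240000001400008011000080300000a026000020160000200400004016000020240000402400008010000000240000001100004025000000160000801d0000001c0000001a000040300001003000000016000000280000201000000002000000180000001200000032000000180000000c00000006000000180000000c00000006000000000000000c000000020000401e000000000000201a0000601c0000201700008016000000220000002000006025000040260000201d0000401c0000200a0000c02e00010031000060100000000a00006031000020140000a0100000000400006024000060160000c02f0000002e0000202a else nat_lit 0x8017000040110000801c0000e03000000011000080250000001e0000e02f000080110000401100004017000020250000201000006016000040310000a02f0000202e0000000c000000020000002000000028000000120000201c00004031000000300000001d0000201c000060250000001000002011000000220000802400004010000020260000a0300000a02e000060260000601e00000006000000170000601700002022000120300000002c0000802e0000002f0000a02f0000000e0000001e0000202500012031000080310000602e0000e0260000401e0000402700002011000080240000201e0000a01100000028000000170000c0260000e027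
def spT_3_5 (j : ℕ) : ℕ := bif Nat.blt j 4 then nat_lit 0xc0310000802f000040300000601c000080310000200e0000601d0000a031000000280000002e000100310000602f0000602e0000002a000100300000c02f0000a03000000031000080300000202600012027000080270000801700000008000000180000c026000060260000802600004016000140300000402f0000002f00012026000000260000a02e0000802f000100260000a0250000001c0000e0270000602400000012000040270000c0300000802e000100270000a0110000200a00008010000020080000201e0000e02e000020270000202c0000c030000000200000603000012026000020080000401d000040250000002400004010 else nat_lit 0x320000000200000032000000320000001200000006000000200000000c00000018000000280000001200000028000000000000000200000020000000200000000600000000000000180000000600000012000000000000202f000000270000e02e00000010000120300000a02700006017000140300000200400012031000040170000e0310000801d0000402f00006027000140310000202700000030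
def spT_2_5 (j : ℕ) : ℕ := bif Nat.blt j 3 then nat_lit 0x60300000401c000000140000601d00002014000000080000a02400014031000020240000c027000000270000a0310000002500010026000080260000000c000020300000001d00000004000100270000a027000020220000a026000080270000c02700004026000060270000e02600004024000120270000000a0000401d0000202f0000201700008016000020310000c0310000e0310000601e0000a0100000402e0000c02e0000202a0000e02f0000602f000080250000a0250000001a00002031000020160000200e0000601100006011000060100000201d0000801c000060310000000e0000002a0000202e00002030000000310000402e0000e030 else (spT_3_5 j)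
def spT_0_5 (j : ℕ) : ℕ := bif Nat.blt j 2 then (spT_0_2 j) else (spT_2_5 j)
def spT (j : ℕ) : ℕ := (spT_0_5 j)
def sp (j : ℕ) : ℕ := Nat.land (Nat.shiftRight (spT (Nat.shiftRight j 6)) (Nat.mul (Nat.land j 63) 32)) 4294967295
theorem Eo_lt (r : ℕ) : Eo r < 18014398509481984 := land54_lt _
def cT (j : ℕ) : ℕ := nat_lit 0x7700006700005f00005c00005a00005800005600005500005400004f00004d00004a00004800004700004600004500004400003e00003c00003800003600003500003400003300003200003000002f00002c00002a00002900002800002700002600002500002400002300002200002100002000001f00001e00001d00001c00001600001500001400001100001000000b00000a000008000007000004000003000002000001000000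
noncomputable def cChunk (h : ℕ) : ℕ := Nat.rec (motive := fun _ => ℕ) (cT 0) (fun n _ => cT (Nat.succ n)) h
noncomputable def cF (i : ℕ) : ℕ := Nat.land (Nat.shiftRight (cChunk (Nat.shiftRight i 7)) (Nat.mul (Nat.land i 127) 24)) 16777215
theorem cF_lt (i : ℕ) : cF i < 16777216 := land24_lt _
theorem cF_zero : cF 0 = 0 := by decide +kernel
def nDef : ℕ := 23099
def nEv : ℕ := 66736
def nW : ℕ := 296
def N : ℕ := 57
def ys : List ℕ := [nat_lit 0, nat_lit 1, nat_lit 2, nat_lit 3, nat_lit 4, nat_lit 5, nat_lit 6, nat_lit 7]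
end Cfsg.Agent.Lib.ToddCox.L37T
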