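import Cfsg.Agent.Lib.ToddCox.L37T.TabD0
set_option autoImplicit false
set_option maxRecDepth 100000
namespace Cfsg.Agent.Lib.ToddCox.L37T
def tT_0_2 (j : ℕ) : ℕ := bif Nat.blt j 1 then T_0 else T_1
def tT_2_4 (j : ℕ) : ℕ := bif Nat.blt j 3 then T_2 else T_3
def tT_0_4 (j : ℕ) : ℕ := bif Nat.blt j 2 then (tT_0_2 j) else (tT_2_4 j)
def tT_4_6 (j : ℕ) : ℕ := bif Nat.blt j 5 then T_4 else T_5
def tT_6_8 (j : ℕ) : ℕ := bif Nat.blt j 7 then T_6 else T_7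
def tT_4_8 (j : ℕ) : ℕ := bif Nat.blt j 6 then (tT_4_6 j) else (tT_6_8 j)
def tT_0_8 (j : ℕ) : ℕ := bif Nat.blt j 4 then (tT_0_4 j) else (tT_4_8 j)
def tT (j : ℕ) : ℕ := (tT_0_8 j)
noncomputable def tC (h : ℕ) : ℕ := Nat.rec (motive := fun _ => ℕ) (tT 0) (fun n _ => tT (Nat.succ n)) h
noncomputable def tab (y i : ℕ) : ℕ := Nat.land (Nat.shiftRight (tC (Nat.add (Nat.mul y 1) (Nat.shiftRight i 8))) (Nat.mul (Nat.land i 255) 18)) 262143
def prT (j : ℕ) : ℕ := nat_lit 0x2000028020000260c00002302000023080000210400002108000020020000200c00001f0200001f0200001e0200001b08000019020000190a0000180800001708000014020000140a000013040000110c00000f0800000f0400000f0200000f0000000f0a00000e0a00000d0800000d0c00000c0a00000c0800000c0a00000b0800000b0400000b0a000009040000090a0000080800000804000008000000070a0000060a0000050800000506000005040000050c0000040a000004000000040c0000020a000002020000020c0000010400000102000001000000011c00000000000000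
noncomputable def prC (h : ℕ) : ℕ := Nat.rec (motive := fun _ => ℕ) (prT 0) (fun n _ => prT (Nat.succ n)) h
noncomputable def pr (i : ℕ) : ℕ := Nat.land (Nat.shiftRight (prC (Nat.shiftRight i 7)) (Nat.mul (Nat.land i 127) 32)) 4294967295
def invR (y : ℕ) : ℕ := invOf 0x1c61440c2040 y
def Rc : List (List ℕ) := [[nat_lit 0, nat_lit 0],
  [nat_lit 1, nat_lit 1],
  [nat_lit 1, nat_lit 0, nat_lit 1, nat_lit 0],
  [nat_lit 2, nat_lit 2],
  [nat_lit 2, nat_lit 0, nat_lit 2, nat_lit 0, nat_lit 2, nat_lit 0, nat_lit 2, nat_lit 0, nat_lit 2, nat_lit 0, nat_lit 2, nat_lit 0, nat_lit 2, nat_lit 0],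
  [nat_lit 2, nat_lit 1, nat_lit 2, nat_lit 1],
  [nat_lit 3, nat_lit 3],
  [nat_lit 3, nat_lit 0, nat_lit 3, nat_lit 0, nat_lit 3, nat_lit 0, nat_lit 3, nat_lit 0, nat_lit 3, nat_lit 0, nat_lit 3, nat_lit 0, nat_lit 3, nat_lit 0],
  [nat_lit 0, nat_lit 3, nat_lit 2, nat_lit 1, nat_lit 3, nat_lit 1],
  [nat_lit 4, nat_lit 4],
  [nat_lit 4, nat_lit 3, nat_lit 4, nat_lit 3],
  [nat_lit 4, nat_lit 1, nat_lit 4, nat_lit 1, nat_lit 0],
  [nat_lit 5, nat_lit 5],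
  [nat_lit 5, nat_lit 1, nat_lit 5, nat_lit 1, nat_lit 5, nat_lit 1],
  [nat_lit 5, nat_lit 4, nat_lit 5, nat_lit 4, nat_lit 3],
  [nat_lit 0, nat_lit 5, nat_lit 0, nat_lit 2, nat_lit 0, nat_lit 5, nat_lit 0, nat_lit 2],
  [nat_lit 6, nat_lit 6],
  [nat_lit 6, nat_lit 1, nat_lit 6, nat_lit 1, nat_lit 6, nat_lit 1],
  [nat_lit 0, nat_lit 6, nat_lit 0, nat_lit 6, nat_lit 3, nat_lit 2],
  [nat_lit 0, nat_lit 6, nat_lit 1, nat_lit 5, nat_lit 6, nat_lit 4, nat_lit 6, nat_lit 5, nat_lit 3, nat_lit 1],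
  [nat_lit 7, nat_lit 7],
  [nat_lit 7, nat_lit 0, nat_lit 7, nat_lit 0, nat_lit 7, nat_lit 0],
  [nat_lit 7, nat_lit 5, nat_lit 7, nat_lit 5, nat_lit 7, nat_lit 5, nat_lit 7, nat_lit 5, nat_lit 7, nat_lit 5, nat_lit 7, nat_lit 5],
  [nat_lit 0, nat_lit 7, nat_lit 4, nat_lit 2, nat_lit 3, nat_lit 7, nat_lit 3, nat_lit 2],
  [nat_lit 7, nat_lit 4, nat_lit 5, nat_lit 6, nat_lit 3, nat_lit 1, nat_lit 7, nat_lit 5, nat_lit 1, nat_lit 3, nat_lit 0]]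
def Tw : List (List ℕ) := [[nat_lit 0],
  [nat_lit 1],
  [nat_lit 2],
  [nat_lit 3],
  [nat_lit 4],
  [nat_lit 5],
  [nat_lit 6],
  [nat_lit 0],
  [nat_lit 1],
  [nat_lit 2],
  [nat_lit 3],
  [nat_lit 4],
  [nat_lit 5],
  [nat_lit 6],
  [nat_lit 7]]
def Sw : List (List ℕ) := [[nat_lit 0],
  [nat_lit 1],
  [nat_lit 2],
  [nat_lit 3],
  [nat_lit 4],
  [nat_lit 5],
  [nat_lit 6]]
def ysR : List ℕ := [nat_lit 0, nat_lit 1, nat_lit 2, nat_lit 3, nat_lit 4, nat_lit 5, nat_lit 6, nat_lit 7]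
noncomputable def chkAll (i : ℕ) : Bool := bif Nat.blt i 57 then and (chkPt tab invR 57 ysR Rc i) (bif Nat.beq i 0 then true else chkReachPt tab Tw i (pr i)) else true
end Cfsg.Agent.Lib.ToddCox.L37T
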